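import Cfsg.Agent.RankTwoResistant.Tools
import Cfsg.Agent.Fusion.Saturated
import Cfsg.Agent.PCore.Basic
import Cfsg.Agent.Fusion.Alperin

/-!
Radical subgroups in rank two: the invariant subgroup of exponent `p` and the action on a plane.
-/

set_option autoImplicit false
set_option linter.style.haveILetI false

open scoped commutatorElement

namespace CfsgLib.RankTwoResistant

open Cfsg Cfsg.FusionSystem CfsgLib.Fusion

variable {p : ℕ} [hp : Fact p.Prime]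

/-- A characteristic subgroup of exponent `p` detecting automorphisms of order prime to `p`. -/
theorem exists_omega {R : Type*} [Group R] [Finite R] (hp2 : p ≠ 2) (hR : IsPGroup p R) (hR1 : Nontrivial R) :
    ∃ W : Subgroup R, W.Characteristic ∧ W ≠ ⊥ ∧ (∀ x ∈ W, x ^ p = 1) ∧
      ∀ α : MulAut R, (orderOf α).Coprime p → (∀ x ∈ W, α x = x) → α = 1 := by
  obtain ⟨H, hH⟩ := CfsgLib.PGroup.exists_critical (p := p) hR ⊤ fun _ => Subgroup.mem_top _
  haveI hHn : H.Normal := ⟨fun x hx g => by simpa using hH.invariant _ (Subgroup.mem_top (MulAut.conj g)) x hx⟩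
  have h2 : ∀ a b : H, ⁅a, b⁆ ∈ Subgroup.center H := fun a b => by
    have := hH.commutator_le (Subgroup.commutator_mem_commutator a.2 (Subgroup.mem_top (b : R)))
    exact Subgroup.mem_center_iff.2 fun g => Subtype.ext (Subgroup.mem_centralizer_iff.1 this.2 g g.2)
  have hpz : ∀ x g : H, Commute (x ^ p) g := fun x g => Subtype.ext (by
    simpa using (Subgroup.mem_centralizer_iff.1 (hH.pow_mem x x.2) g g.2).symm)
  have hcp : ∀ x y : H, ⁅y, x⁆ ^ p = 1 := fun x y => by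
    rw [← CfsgLib.PGroup.commutator_pow_right h2, commutatorElement_eq_one_iff_mul_comm]
    exact (hpz x y).symm.eq
  have hpow : ∀ x y : H, (x * y) ^ p = x ^ p * y ^ p := fun x y => by
    obtain ⟨k, hk⟩ := CfsgLib.PGroup.dvd_choose_two (p := p) hp2
    rw [CfsgLib.PGroup.mul_pow_central (h2 y x), hk, pow_mul, hcp, one_pow, mul_one]
  set W := (CfsgLib.PGroup.omegaSubgroup (p := p) hp2 h2).map H.subtype with hW
  have hmem : ∀ x, x ∈ W ↔ x ∈ H ∧ x ^ p = 1 := fun x => by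
    rw [hW, Subgroup.mem_map]
    exact ⟨fun ⟨y, hy, e⟩ => e ▸ ⟨y.2, congrArg Subtype.val (show y ^ p = 1 from hy)⟩,
      fun ⟨h1, h3⟩ => ⟨⟨x, h1⟩, Subtype.ext (by simpa using h3), rfl⟩⟩
  refine ⟨W, ?_, ?_, fun x hx => ((hmem x).1 hx).2, fun α hco hfix => ?_⟩
  · exact Subgroup.characteristic_iff_le_comap.2 fun α x hx => (hmem _).2
      ⟨hH.invariant _ (Subgroup.mem_top α) x ((hmem x).1 hx).1, by
        show (α x) ^ p = 1
        rw [← map_pow, ((hmem x).1 hx).2, map_one]⟩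
  · intro hb
    have hHne : H ≠ ⊥ := by
      intro e
      obtain ⟨r, hr⟩ := exists_ne (1 : R)
      refine hr (Subgroup.mem_bot.1 (e ▸ hH.centralizer_le ?_))
      rw [e]
      exact Subgroup.mem_centralizer_iff.2 fun g hg => by rw [Subgroup.mem_bot.1 hg, one_mul, mul_one]
    haveI : Nontrivial H := (Subgroup.nontrivial_iff_ne_bot H).2 hHne
    obtain ⟨k, hk⟩ := IsPGroup.iff_card.1 (hR.to_subgroup H)
    have h1 : p ∣ Nat.card H := by
      rcases k with _ | k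
      · have := Finite.one_lt_card (α := H)
        rw [hk, pow_zero] at this; omega
      · rw [hk, pow_succ]; exact dvd_mul_left _ _
    obtain ⟨y, hy⟩ := exists_prime_orderOf_dvd_card' p h1
    have hyW : (y : R) ∈ W := (hmem _).2 ⟨y.2, by rw [← hy, ← Subgroup.orderOf_coe]; exact pow_orderOf_eq_one _⟩
    rw [hb, Subgroup.mem_bot] at hyW
    rw [show y = 1 from Subtype.ext hyW, orderOf_one] at hy
    exact hp.out.ne_one hy.symm
  · have hHα : H.map α.toMonoidHom = H := le_antisymm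
      (fun _ ⟨x, hx, e⟩ => e ▸ hH.invariant _ (Subgroup.mem_top α) x hx)
      (fun x hx => ⟨α⁻¹ x, hH.invariant _ (Subgroup.mem_top α⁻¹) x hx, MulEquiv.apply_symm_apply α x⟩)
    let αH : MulAut H := ((α.subgroupMap H).trans (MulEquiv.subgroupCongr hHα) : H ≃* H)
    have hcoe : ∀ (n : ℕ) (w : H), (((αH ^ n) w : H) : R) = (α ^ n) (w : R) := by
      intro n
      induction n with
      | zero => simp
      | succ k ih => intro w; rw [pow_succ, pow_succ, MulAut.mul_apply, MulAut.mul_apply, ih]; rfl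
    have hcoH : (orderOf αH).Coprime p := hco.coprime_dvd_left (orderOf_dvd_of_pow_eq_one
      (MulEquiv.ext fun w => Subtype.ext (by rw [hcoe, pow_orderOf_eq_one, MulAut.one_apply, MulAut.one_apply])))
    have h1 : αH = 1 := CfsgLib.PLocalBasics.exists_moved_of_class_two (hR.to_subgroup H) hpow hcoH fun x hx =>
      Subtype.ext (hfix x ((hmem _).2 ⟨x.2, congrArg Subtype.val hx⟩))
    exact CfsgLib.PGroup.eq_one_of_fixes_selfCentralizing hR hH.centralizer_le hco fun x hx =>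
      congrArg Subtype.val (show αH ⟨x, hx⟩ = ⟨x, hx⟩ by rw [h1]; rfl)

variable {Ω : Type*} [Group Ω] {S : Subgroup Ω} [Finite S] {F : Cfsg.FusionSystem S} {P : Subgroup Ω}

/-- A proper centric subgroup has an outer automorphism induced by `S`. -/
lemma exists_outer (hS : IsPGroup p S) (hc : F.IsCentric P) (hlt : P < S) :
    ∃ b ∈ autInducedBy S P, b ∉ Cfsg.Inn P := by
  have hPS : P ≤ S := hlt.le
  obtain ⟨g, hg, hgP⟩ := SetLike.exists_of_lt (lt_normalizerIn hS hlt)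
  refine ⟨conjAut P S ⟨g, hg⟩, range_conjAut (P := P) S ▸ ⟨_, rfl⟩, fun hI => ?_⟩
  obtain ⟨w, hw⟩ := hI
  refine hgP ?_
  have h1 : (w : Ω)⁻¹ * g ∈ P := hc.2 P (CfsgLib.Fusion.IsConj.refl hPS)
    ⟨S.mul_mem (S.inv_mem (hPS w.2)) hg.1, Subgroup.mem_centralizer_iff.2 fun u hu => by
      have e : (w : Ω) * u * (w : Ω)⁻¹ = g * u * g⁻¹ :=
        congrArg (fun f : MulAut P => ((f ⟨u, hu⟩ : P) : Ω)) hw
      calc u * ((w : Ω)⁻¹ * g) = (w : Ω)⁻¹ * ((w : Ω) * u * (w : Ω)⁻¹) * g := by group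
        _ = (w : Ω)⁻¹ * g * u := by rw [e]; group⟩
  have := P.mul_mem w.2 h1
  rwa [mul_inv_cancel_left] at this

/-- In a radical subgroup normal `p`-subgroups of the automiser are inner. -/
lemma le_inn (hr : F.IsRadical p P) (D : Subgroup (F.autGroup P)) [hD : D.Normal] (hDp : IsPGroup p D) :
    D.map (F.autGroup P).subtype ≤ Cfsg.Inn P :=
  hr.2 ▸ Subgroup.map_mono (le_sSup ⟨hD, hDp⟩)

section Plane

variable {H : Type*} [Group H] [Finite H] (ρ : F.autGroup P →* MulAut H)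

/-- A two-dimensional representation of a radical automiser with `p`-group kernel. -/
theorem plane (hS : IsPGroup p S) (hF : F.IsSaturated p) (hn : F.IsFullyNormalized P) (hc : F.IsCentric P)
    (hr : F.IsRadical p P) (hlt : P < S) (hcard : Nat.card H = p ^ 2) (hexp : ∀ x : H, x ^ p = 1)
    (hker : IsPGroup p ρ.ker) :
    (∀ a : F.autGroup P, (a : MulAut P) ∈ Cfsg.Inn P → ρ a = 1) ∧
    (∀ a : F.autGroup P, ρ a = 1 → (a : MulAut P) ∈ Cfsg.Inn P) ∧
    ∃ (g : Ω) (hgS : g ∈ S) (hgN : g ∈ Subgroup.normalizer (P : Set Ω))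
      (hb : conjAut P S ⟨g, hgS, hgN⟩ ∈ F.autGroup P) (z z' : H),
      g ∉ P ∧ z ≠ 1 ∧ z' ∉ Subgroup.zpowers z ∧ ρ ⟨_, hb⟩ z = z ∧ ρ ⟨_, hb⟩ z' = z' * z ∧
      ρ ⟨_, hb⟩ ^ p = 1 ∧
      (∀ s (hs : s ∈ normalizerIn S P), ∀ (hsA : conjAut P S ⟨s, hs⟩ ∈ F.autGroup P),
        ρ ⟨_, hsA⟩ ∈ Subgroup.zpowers (ρ ⟨_, hb⟩)) ∧
      (∃ a : F.autGroup P, ρ a z ∉ Subgroup.zpowers z) ∧
      ∀ k m : ℤ, (p : ℤ) ∣ k * m - 1 → ∃ h : F.autGroup P, ρ h z = z ^ k ∧ ρ h z' = z' ^ m ∧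
        ρ (h * ⟨_, hb⟩ * h⁻¹) = ρ ⟨_, hb⟩ ^ (k * k) := by
  classical
  have hPS : P ≤ S := hn.1
  haveI := finite_of_le hPS
  haveI := finite_mulAut (S := S) hPS
  haveI : Finite (MulAut H) := Finite.of_injective (fun α : MulAut H => (α : H → H)) DFunLike.coe_injective
  obtain ⟨-, T, hT⟩ := fullyAutomized_of_fullyNormalized hS hF hn
  have hkI : ∀ a : ↥(F.autGroup P), ρ a = 1 → (a : MulAut P) ∈ Cfsg.Inn P := fun a ha =>
    le_inn hr ρ.ker hker ⟨a, ha, rfl⟩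
  have hIT : ∀ a : ↥(F.autGroup P), (a : MulAut P) ∈ Cfsg.Inn P → a ∈ (T : Subgroup (F.autGroup P)) := fun a ha => by
    rw [hT, Subgroup.mem_subgroupOf]
    obtain ⟨w, hw⟩ := ha
    rw [mem_autInducedBy]
    exact ⟨w, hPS w.2, fun u => by rw [← hw]; rfl⟩
  obtain ⟨u, hu1, -, -, hR⟩ := CfsgLib.Fusion.pGroup_aut_square hcard hexp ((T : Subgroup (F.autGroup P)).map ρ) (T.2.map ρ)
  obtain ⟨b, hb, hbI⟩ := exists_outer hS hc hlt
  have hbA : b ∈ F.autGroup P := autInducedBy_le_autGroup hPS hb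
  have hbT : (⟨b, hbA⟩ : F.autGroup P) ∈ (T : Subgroup (F.autGroup P)) := hT ▸ Subgroup.mem_subgroupOf.2 hb
  set t := ρ ⟨b, hbA⟩ with htdef
  have ht1 : t ≠ 1 := fun e => hbI (hkI _ e)
  obtain ⟨i, hi⟩ := IsPGroup.iff_card.1 (T.2.map ρ)
  have htle : Subgroup.zpowers t ≤ (T : Subgroup (F.autGroup P)).map ρ :=
    Subgroup.zpowers_le.2 (Subgroup.mem_map_of_mem ρ hbT)
  have hto : orderOf t = p ∧ (T : Subgroup (F.autGroup P)).map ρ = Subgroup.zpowers t := by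
    have h1 : orderOf t ∣ p ^ i := by
      rw [← hi, ← Nat.card_zpowers]; exact Subgroup.card_dvd_of_le htle
    obtain ⟨j, -, hj⟩ := (Nat.dvd_prime_pow hp.out).1 h1
    have h2 : orderOf t ≤ p := by
      rw [← Nat.card_zpowers]; exact (Subgroup.card_le_of_le htle).trans hR
    have hj0 : j ≠ 0 := fun e => ht1 (orderOf_eq_one_iff.1 (by rw [hj, e, pow_zero]))
    have h3 : orderOf t = p := le_antisymm h2 (hj ▸ Nat.le_self_pow hj0 p)
    exact ⟨h3, (Subgroup.eq_of_le_of_card_ge htle (by rw [Nat.card_zpowers, h3]; exact hR)).symm⟩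
  have hzT : ∀ a : ↥(F.autGroup P), ρ a ∈ Subgroup.zpowers t → a ∈ (T : Subgroup (F.autGroup P)) := fun a ha => by
    rw [← hto.2] at ha
    obtain ⟨s, hs, hse⟩ := ha
    have h1 : a * s⁻¹ ∈ (T : Subgroup (F.autGroup P)) := hIT _ (hkI _ (by rw [map_mul, map_inv, hse, mul_inv_cancel]))
    have := (T : Subgroup (F.autGroup P)).mul_mem h1 hs
    rwa [inv_mul_cancel_right] at this
  have hInn : ∀ a : ↥(F.autGroup P), (a : MulAut P) ∈ Cfsg.Inn P → ρ a = 1 := fun a ha => by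
    by_contra hne
    -- otherwise `b` is inner times an element of the kernel
    have h1 : Subgroup.zpowers (ρ a) = Subgroup.zpowers t := by
      refine Subgroup.eq_of_le_of_card_ge (hto.2 ▸ Subgroup.zpowers_le.2 (Subgroup.mem_map_of_mem ρ (hIT a ha))) ?_
      rw [Nat.card_zpowers, Nat.card_zpowers, hto.1]
      have h2 : orderOf (ρ a) ∣ p := by
        have := Subgroup.card_dvd_of_le (hto.2 ▸ Subgroup.zpowers_le.2 (Subgroup.mem_map_of_mem ρ (hIT a ha)) :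
          Subgroup.zpowers (ρ a) ≤ Subgroup.zpowers t)
        rwa [Nat.card_zpowers, Nat.card_zpowers, hto.1] at this
      exact (((Nat.dvd_prime hp.out).1 h2).resolve_left fun e => hne (orderOf_eq_one_iff.1 e)).ge
    obtain ⟨n, hn'⟩ := Subgroup.mem_zpowers_iff.1 (h1 ▸ Subgroup.mem_zpowers t)
    have h3 : (((⟨b, hbA⟩ : F.autGroup P) * (a ^ n)⁻¹ : ↥(F.autGroup P)) : MulAut P) ∈ Cfsg.Inn P :=
      hkI _ (by rw [map_mul, map_inv, map_zpow, hn', mul_inv_cancel])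
    refine hbI ?_
    have := (Cfsg.Inn P).mul_mem h3 ((Cfsg.Inn P).zpow_mem ha n)
    simpa using this
  obtain ⟨a, ha⟩ : ∃ a : ↥(F.autGroup P), ρ (a * ⟨b, hbA⟩ * a⁻¹) ∉ Subgroup.zpowers t := by
    by_contra hall
    push Not at hall
    haveI : (T : Subgroup (F.autGroup P)).Normal := ⟨fun s hs c => hzT _ (by
      have h1 : ρ s ∈ Subgroup.zpowers t := hto.2 ▸ Subgroup.mem_map_of_mem ρ hs
      obtain ⟨n, hn'⟩ := Subgroup.mem_zpowers_iff.1 h1
      rw [map_mul, map_mul, map_inv, ← hn', ← conj_zpow, htdef, ← map_inv, ← map_mul, ← map_mul]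
      exact Subgroup.zpow_mem _ (hall c) n)⟩
    exact hbI (le_inn hr (T : Subgroup (F.autGroup P)) T.2 ⟨_, hbT, rfl⟩)
  set y := ρ (a * ⟨b, hbA⟩ * a⁻¹) with hydef
  have hy : IsPGroup p (Subgroup.zpowers y) := IsPGroup.of_card (n := 1) (by
    rw [Nat.card_zpowers, pow_one, hydef, map_mul, map_mul, map_inv, ← htdef,
      show ρ a * t * (ρ a)⁻¹ = MulAut.conj (ρ a) t from rfl, MulEquiv.orderOf_eq, hto.1])
  have ht : IsPGroup p (Subgroup.zpowers t) := IsPGroup.of_card (n := 1) (by rw [Nat.card_zpowers, pow_one, hto.1])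
  obtain ⟨z, z', hz1, hz', htz, htz', hyz, hdiag⟩ := exists_diag hcard hexp (X := ρ.range) ⟨_, rfl⟩ ⟨_, rfl⟩ ht hy
    ht1 ha
  obtain ⟨g, hgS, hgN, rfl⟩ : ∃ g, ∃ (hgS : g ∈ S) (hgN : g ∈ Subgroup.normalizer (P : Set Ω)),
      b = conjAut P S ⟨g, hgS, hgN⟩ := by
    rw [← range_conjAut (P := P) S] at hb
    obtain ⟨⟨g, h1, h2⟩, rfl⟩ := hb
    exact ⟨g, h1, h2, rfl⟩
  refine ⟨hInn, hkI, g, hgS, hgN, hbA, z, z', fun hgP => hbI ⟨⟨g, hgP⟩, ?_⟩, hz1, hz', htz, htz',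
    hto.1 ▸ pow_orderOf_eq_one t, fun s hs hsA => ?_, ⟨a⁻¹, fun hmem => hyz ?_⟩, fun k m hkm => ?_⟩
  · exact MulEquiv.ext fun w => Subtype.ext rfl
  · rw [← htdef, ← hto.2]
    exact Subgroup.mem_map_of_mem ρ (hT ▸ Subgroup.mem_subgroupOf.2 (range_conjAut (P := P) S ▸ ⟨_, rfl⟩))
  · obtain ⟨n, hn'⟩ := Subgroup.mem_zpowers_iff.1 hmem
    rw [map_inv] at hn'
    rw [map_mul, map_mul, map_inv, MulAut.mul_apply, MulAut.mul_apply, ← hn', ← htdef, map_zpow t, htz, hn',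
      MulAut.apply_inv_self]
  · obtain ⟨σ, ⟨h, rfl⟩, h1, h2, h3⟩ := hdiag k m hkm
    exact ⟨h, h1, h2, by rw [map_mul, map_mul, map_inv]; exact h3⟩

end Plane

end CfsgLib.RankTwoResistant
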