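import Cfsg.Agent.RankTwoResistant.Tools
import Cfsg.Agent.Fusion.Saturated
import Mathlib.NumberTheory.Multiplicity

/-!
An extraspecial plane in a saturated system over a `p`-group of rank two cannot carry a diagonal automorphism.
-/

set_option autoImplicit false
set_option linter.style.haveILetI false

open scoped commutatorElement

namespace CfsgLib.RankTwoResistant

open Cfsg Cfsg.FusionSystem CfsgLib.Fusion

variable {p : ℕ} [hp : Fact p.Prime]

/-- An integer inverse modulo `p`. -/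
lemma exists_inv_mod {a : ℤ} (ha : ¬ (p : ℤ) ∣ a) : ∃ b : ℤ, (p : ℤ) ∣ a * b - 1 := by
  obtain ⟨u, v, huv⟩ := (Nat.prime_iff_prime_int.1 hp.out).coprime_iff_not_dvd.2 ha
  exact ⟨v, -u, by linear_combination huv⟩

lemma not_dvd_mul {a b : ℤ} (ha : ¬ (p : ℤ) ∣ a) (hb : ¬ (p : ℤ) ∣ b) : ¬ (p : ℤ) ∣ a * b := fun h =>
  ((Nat.prime_iff_prime_int.1 hp.out).dvd_or_dvd h).elim ha hb

/-- A fixed power of an element of order `p` gives a fixed element. -/
lemma fixed_of_zpow_fixed {G : Type*} [Group G] {f : MulAut G} {x : G} (hx : x ^ p = 1) {a : ℤ}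
    (ha : ¬ (p : ℤ) ∣ a) (h : f (x ^ a) = x ^ a) : f x = x := by
  obtain ⟨b, hb⟩ := exists_inv_mod ha
  have e : x ^ (a * b) = x := (zpow_congr hx hb).trans (zpow_one x)
  rw [← e, zpow_mul, map_zpow, h]

section Heisenberg

variable {G : Type*} [Group G] {x l z : G}

/-- Conjugating a power by a power in class two. -/
lemma conj_zpow_zpow (hxl : x * l * x⁻¹ = l * z) (hzx : Commute z x) (hzl : Commute z l) (i j : ℤ) :
    x ^ i * l ^ j * (x ^ i)⁻¹ = l ^ j * z ^ (i * j) := by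
  have h1 : ∀ i : ℤ, x ^ i * l * (x ^ i)⁻¹ = l * z ^ i := by
    intro i
    induction i using Int.induction_on with
    | zero => simp
    | succ k ih =>
      rw [zpow_add_one, mul_inv_rev]
      calc x ^ (k : ℤ) * x * l * (x⁻¹ * (x ^ (k : ℤ))⁻¹) = x ^ (k : ℤ) * (x * l * x⁻¹) * (x ^ (k : ℤ))⁻¹ := by group
        _ = x ^ (k : ℤ) * l * (x ^ (k : ℤ))⁻¹ * z := by
          rw [hxl, mul_assoc (x ^ (k : ℤ)) , mul_assoc l, ((hzx.zpow_right (k : ℤ)).inv_right).eq]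
          group
        _ = l * z ^ ((k : ℤ) + 1) := by rw [ih, mul_assoc, ← zpow_add_one]
    | pred k ih =>
      have e : x⁻¹ * l * x = l * z⁻¹ := by
        have hh : l = x⁻¹ * l * x * z := by
          calc l = x⁻¹ * (x * l * x⁻¹) * x := by group
            _ = x⁻¹ * l * (z * x) := by rw [hxl]; group
            _ = _ := by rw [hzx.eq]; group
        exact eq_mul_inv_iff_mul_eq.2 hh.symm
      rw [zpow_sub_one, mul_inv_rev, inv_inv]
      calc x ^ (-(k : ℤ)) * x⁻¹ * l * (x * (x ^ (-(k : ℤ)))⁻¹)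
          = x ^ (-(k : ℤ)) * (x⁻¹ * l * x) * (x ^ (-(k : ℤ)))⁻¹ := by group
        _ = x ^ (-(k : ℤ)) * l * (x ^ (-(k : ℤ)))⁻¹ * z⁻¹ := by
          rw [e, mul_assoc (x ^ (-(k : ℤ))), mul_assoc l, ((hzx.inv_left.zpow_right (-(k : ℤ))).inv_right).eq]
          group
        _ = l * z ^ (-(k : ℤ) - 1) := by rw [ih, mul_assoc, ← zpow_sub_one]
  rw [← conj_zpow, h1, Commute.mul_zpow ((hzl.zpow_left i).symm), ← zpow_mul]

lemma pow_form (hxl : x * l * x⁻¹ = l * z) (hzx : Commute z x) (hzl : Commute z l) (b f : ℤ) :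
    ∀ m : ℕ, ∃ e : ℤ, (x * l ^ b * z ^ f) ^ m = x ^ (m : ℤ) * l ^ (b * m) * z ^ e := by
  intro m
  induction m with
  | zero => exact ⟨0, by simp⟩
  | succ m ih =>
    obtain ⟨e, he⟩ := ih
    refine ⟨e + (-(b * m)) + f, ?_⟩
    have h := conj_zpow_zpow hxl hzx hzl (-1) (b * m)
    rw [zpow_neg_one, inv_inv, neg_one_mul] at h
    have e1 : l ^ (b * (m : ℤ)) * x = x * l ^ (b * (m : ℤ)) * z ^ (-(b * (m : ℤ))) := by
      rw [mul_assoc x, ← h]; group
    rw [pow_succ, he]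
    calc x ^ (m : ℤ) * l ^ (b * m) * z ^ e * (x * l ^ b * z ^ f)
        = x ^ (m : ℤ) * (l ^ (b * m) * x) * (z ^ e * l ^ b) * z ^ f := by
          rw [show z ^ e * l ^ b = l ^ b * z ^ e from ((hzl.zpow_left e).zpow_right b).eq]
          calc x ^ (m : ℤ) * l ^ (b * m) * z ^ e * (x * l ^ b * z ^ f)
              = x ^ (m : ℤ) * l ^ (b * m) * (z ^ e * x) * l ^ b * z ^ f := by group
            _ = x ^ (m : ℤ) * l ^ (b * m) * x * (z ^ e * l ^ b) * z ^ f := by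
              rw [(hzx.zpow_left e).eq]; group
            _ = _ := by rw [((hzl.zpow_left e).zpow_right b).eq]; group
      _ = x ^ (m : ℤ) * x * l ^ (b * m) * (z ^ (-(b * (m : ℤ))) * l ^ b) * z ^ e * z ^ f := by
          rw [e1, ((hzl.zpow_left e).zpow_right b).eq]; group
      _ = x ^ ((m + 1 : ℕ) : ℤ) * l ^ (b * ((m + 1 : ℕ) : ℤ)) * z ^ (e + (-(b * (m : ℤ))) + f) := by
          rw [((hzl.zpow_left (-(b * (m : ℤ)))).zpow_right b).eq]
          push_cast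
          rw [zpow_add_one x, mul_add, mul_one, zpow_add l, zpow_add z, zpow_add z]
          have hzz : z ^ (-(b * (m : ℤ))) * z ^ e = z ^ e * z ^ (-(b * (m : ℤ))) := (Commute.zpow_zpow_self z _ _).eq
          simp only [mul_assoc]
          rw [← mul_assoc (z ^ (-(b * (m : ℤ)))), hzz, mul_assoc]

end Heisenberg

variable {Ω : Type*} [Group Ω] {S : Subgroup Ω} [Finite S] {F : Cfsg.FusionSystem S}

theorem false_of_plane (hp5 : 5 ≤ p) (hS : IsPGroup p S) (hF : F.IsSaturated p)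
    (hrk : ∀ A : Subgroup Ω, A ≤ S → Cfsg.IsElementaryAbelian p A → Nat.card A ≤ p ^ 2)
    {Q : Subgroup Ω} (hQn : F.IsFullyNormalized Q) (hQc : centralizerIn S Q ≤ Q)
    {x l z : Ω} (hxQ : x ∈ Q) (hlQ : l ∈ Q) (hxp : x ^ p = 1) (hlp : l ^ p = 1) (hzp : z ^ p = 1)
    (hxl : x * l * x⁻¹ = l * z) (hz1 : z ≠ 1) (hzx : Commute z x) (hzl : Commute z l)
    (hgen : ∀ q ∈ Q, ∃ i j : ℤ, Commute x (q * (x ^ i * l ^ j)⁻¹) ∧ Commute l (q * (x ^ i * l ^ j)⁻¹))
    (hW : ∀ a ∈ F.autGroup Q, ∀ w : Q, (w : Ω) ∈ Subgroup.closure ({x, l} : Set Ω) →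
      ((a w : Q) : Ω) ∈ Subgroup.closure ({x, l} : Set Ω))
    {g₀ : Ω} (hg₀S : g₀ ∈ S) (hg₀N : g₀ ∈ Subgroup.normalizer (Q : Set Ω)) (hg₀Q : g₀ ∉ Q) {n₁ n₂ : ℤ}
    (hgx₀ : g₀ * x * g₀⁻¹ = x * l * z ^ n₁) (hgl₀ : g₀ * l * g₀⁻¹ = l * z ^ n₂)
    {h : MulAut Q} (hh : h ∈ F.autGroup Q) {α β ra rb rc : ℤ} (hα : ¬ (p : ℤ) ∣ α) (hβ : ¬ (p : ℤ) ∣ β)
    (hβ2 : ¬ (p : ℤ) ∣ β * β - 1)
    (hhl : ((h ⟨l, hlQ⟩ : Q) : Ω) = l ^ α * z ^ ra) (hhx : ((h ⟨x, hxQ⟩ : Q) : Ω) = x ^ β * l ^ rb * z ^ rc)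
    (hC : ¬ (p : ℤ) ∣ α - β ∨ ∀ c ∈ Q, Commute x c → Commute l c → Commute g₀ c) : False := by
  classical
  have hQS : Q ≤ S := hQn.1
  haveI := finite_of_le hQS
  haveI := finite_mulAut (S := S) hQS
  have hp2 : p ≠ 2 := by omega
  have hnxl : ¬ Commute x l := fun hc => hz1 (by
    rw [hc.eq, mul_inv_cancel_right] at hxl
    exact mul_left_cancel (a := l) (by rw [mul_one, ← hxl]))
  have hzxl : z = ⁅x, l⁆ := by
    rw [commutatorElement_def, hxl, ← (hzl.eq), mul_inv_cancel_right]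
  have hzQ : z ∈ Q := hzxl ▸ Q.mul_mem (Q.mul_mem (Q.mul_mem hxQ hlQ) (Q.inv_mem hxQ)) (Q.inv_mem hlQ)
  set C := S ⊓ Subgroup.centralizer ({x, l} : Set Ω) with hCdef
  haveI hCcyc : IsCyclic C := isCyclic_centralizer hp2 hS hrk (hQS hlQ) hlp hnxl
  have hmemC : ∀ c, c ∈ C ↔ c ∈ S ∧ Commute x c ∧ Commute l c := fun c => by
    rw [hCdef, Subgroup.mem_inf, Subgroup.mem_centralizer_iff]
    constructor
    · exact fun ⟨a, b⟩ => ⟨a, b x (Set.mem_insert _ _), b l (Set.mem_insert_of_mem _ rfl)⟩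
    · rintro ⟨a, b, d⟩
      exact ⟨a, fun w hw => by
        rcases hw with rfl | rfl
        · exact b
        · exact d⟩
  have hCab : ∀ a ∈ C, ∀ b ∈ C, Commute a b := fun a ha b hb =>
    congrArg Subtype.val ((IsCyclic.isMulCommutative (α := C)).is_comm.comm (⟨a, ha⟩ : C) ⟨b, hb⟩)
  have hgenC : ∀ q ∈ Q, ∃ i j : ℤ, ∃ c ∈ C, q = c * (x ^ i * l ^ j) := fun q hq => by
    obtain ⟨i, j, h1, h2⟩ := hgen q hq
    exact ⟨i, j, _, (hmemC _).2 ⟨S.mul_mem (hQS hq) (S.inv_mem (S.mul_mem (S.zpow_mem (hQS hxQ) _)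
      (S.zpow_mem (hQS hlQ) _))), h1, h2⟩, (inv_mul_cancel_right q _).symm⟩
  have hcomQ : ∀ c ∈ C, ∀ q ∈ Q, Commute c q := fun c hc q hq => by
    obtain ⟨i, j, c', hc', rfl⟩ := hgenC q hq
    obtain ⟨-, h1, h2⟩ := (hmemC c).1 hc
    exact (hCab c hc c' hc').mul_right ((h1.symm.zpow_right i).mul_right (h2.symm.zpow_right j))
  have hCQ : C ≤ Q := fun c hc => hQc ⟨hc.1, Subgroup.mem_centralizer_iff.2 fun q hq => (hcomQ c hc q hq).eq.symm⟩
  have hzC : z ∈ C := (hmemC z).2 ⟨hQS hzQ, hzx.symm, hzl.symm⟩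
  have hCSQ : ∀ c ∈ centralizerIn S Q, c ∈ C := fun c hc => (hmemC c).2
    ⟨hc.1, Subgroup.mem_centralizer_iff.1 hc.2 x hxQ, Subgroup.mem_centralizer_iff.1 hc.2 l hlQ⟩
  -- normalise the conjugating element
  obtain ⟨k, hk⟩ : ∃ k : ℤ, k = -n₂ := ⟨_, rfl⟩
  set g := g₀ * x ^ k with hgdef
  have hgS : g ∈ S := S.mul_mem hg₀S (S.zpow_mem (hQS hxQ) _)
  have hgN : g ∈ Subgroup.normalizer (Q : Set Ω) :=
    Subgroup.mul_mem _ hg₀N (Subgroup.le_normalizer (Q.zpow_mem hxQ _))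
  have hgQ : g ∉ Q := fun h => hg₀Q (by
    have := Q.mul_mem h (Q.inv_mem (Q.zpow_mem hxQ k))
    rwa [hgdef, mul_inv_cancel_right] at this)
  have hg₀z : g₀ * z * g₀⁻¹ = z := by
    have h1 : MulAut.conj g₀ z = ⁅MulAut.conj g₀ x, MulAut.conj g₀ l⁆ := by rw [hzxl, map_commutatorElement]
    rw [MulAut.conj_apply, MulAut.conj_apply, MulAut.conj_apply, hgx₀, hgl₀] at h1
    have h1x := conj_zpow_zpow hxl hzx hzl 1 1
    simp only [zpow_one, one_mul] at h1x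
    rw [h1, commutatorElement_def]
    have a1 : Commute (z ^ n₁) (l * z ^ n₂) :=
      ((hzl.zpow_left n₁).mul_right (Commute.zpow_zpow_self z n₁ n₂))
    have a2 : Commute (z ^ n₂) (x * l) := (hzx.zpow_left n₂).mul_right (hzl.zpow_left n₂)
    calc x * l * z ^ n₁ * (l * z ^ n₂) * (x * l * z ^ n₁)⁻¹ * (l * z ^ n₂)⁻¹
        = x * l * (z ^ n₁ * (l * z ^ n₂) * (z ^ n₁)⁻¹) * (x * l)⁻¹ * (l * z ^ n₂)⁻¹ := by group
      _ = x * l * (l * z ^ n₂) * (x * l)⁻¹ * (l * z ^ n₂)⁻¹ := by rw [a1.eq, mul_inv_cancel_right]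
      _ = x * l * l * (z ^ n₂ * (x * l)⁻¹) * (z ^ n₂)⁻¹ * l⁻¹ := by group
      _ = x * l * l * (x * l)⁻¹ * l⁻¹ := by rw [a2.inv_right.eq]; group
      _ = (x * l * x⁻¹) * l⁻¹ := by group
      _ = z := by rw [hxl, ← hzl.eq, mul_inv_cancel_right]
  have hgz : g * z * g⁻¹ = z := by
    rw [hgdef, mul_inv_rev]
    calc g₀ * x ^ k * z * ((x ^ k)⁻¹ * g₀⁻¹) = g₀ * (x ^ k * z * (x ^ k)⁻¹) * g₀⁻¹ := by group
      _ = z := by rw [← (hzx.zpow_right k).eq, mul_inv_cancel_right, hg₀z]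
  have hgl : g * l * g⁻¹ = l := by
    have h1 := conj_zpow_zpow hxl hzx hzl k 1
    rw [zpow_one, mul_one] at h1
    rw [hgdef, mul_inv_rev]
    calc g₀ * x ^ k * l * ((x ^ k)⁻¹ * g₀⁻¹) = g₀ * (x ^ k * l * (x ^ k)⁻¹) * g₀⁻¹ := by group
      _ = (g₀ * l * g₀⁻¹) * (g₀ * z * g₀⁻¹) ^ k := by rw [h1, conj_zpow]; group
      _ = l := by rw [hgl₀, hg₀z, mul_assoc, ← zpow_add, hk, add_neg_cancel, zpow_zero, mul_one]
  have hgx : g * x * g⁻¹ = x * l * z ^ n₁ := by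
    rw [hgdef, mul_inv_rev]
    calc g₀ * x ^ k * x * ((x ^ k)⁻¹ * g₀⁻¹) = g₀ * x * g₀⁻¹ := by group
      _ = _ := hgx₀
  have cgl : Commute g l := (mul_inv_eq_iff_eq_mul.1 hgl :)
  have cgz : Commute g z := (mul_inv_eq_iff_eq_mul.1 hgz :)
  have hgpow : ∀ m : ℕ, g ^ m * x * (g ^ m)⁻¹ = x * l ^ (m : ℤ) * z ^ (n₁ * (m : ℤ)) := by
    intro m
    induction m with
    | zero => simp
    | succ m ih =>
      rw [pow_succ', mul_inv_rev]
      calc g * g ^ m * x * ((g ^ m)⁻¹ * g⁻¹) = g * (g ^ m * x * (g ^ m)⁻¹) * g⁻¹ := by group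
        _ = (g * x * g⁻¹) * (g * l ^ (m : ℤ) * g⁻¹) * (g * z ^ (n₁ * (m : ℤ)) * g⁻¹) := by rw [ih]; group
        _ = x * l * z ^ n₁ * l ^ (m : ℤ) * z ^ (n₁ * (m : ℤ)) := by
          rw [hgx, ← conj_zpow, hgl, ← conj_zpow, hgz]
        _ = _ := by
          push_cast
          rw [zpow_add_one, mul_add, mul_one, zpow_add, mul_assoc (x * l) (z ^ n₁),
            ((hzl.zpow_left n₁).zpow_right (m : ℤ)).eq]
          calc x * l * (l ^ (m : ℤ) * z ^ n₁) * z ^ (n₁ * (m : ℤ))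
              = x * (l * l ^ (m : ℤ)) * (z ^ n₁ * z ^ (n₁ * (m : ℤ))) := by group
            _ = _ := by rw [(Commute.self_zpow l m).eq, (Commute.zpow_zpow_self z _ _).eq]
  -- the exponent
  obtain ⟨β', hβ'⟩ := exists_inv_mod hβ
  have hp0 : (0 : ℤ) < p := by exact_mod_cast hp.out.pos
  obtain ⟨ν, hν⟩ : ∃ ν : ℕ, (p : ℤ) ∣ (ν : ℤ) * β - α := by
    refine ⟨((α * β') % p).toNat, ?_⟩
    rw [Int.toNat_of_nonneg (Int.emod_nonneg _ hp0.ne')]
    obtain ⟨e, he⟩ := hβ'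
    exact ⟨α * e - (α * β') / p * β, by
      have := Int.mul_ediv_add_emod (α * β') p
      linear_combination β * this + α * he⟩
  obtain ⟨βn, hβn⟩ : ∃ βn : ℕ, (p : ℤ) ∣ β - (βn : ℤ) := by
    refine ⟨(β % p).toNat, ?_⟩
    rw [Int.toNat_of_nonneg (Int.emod_nonneg _ hp0.ne')]
    exact ⟨β / p, by have := Int.mul_ediv_add_emod β p; linear_combination this.symm⟩
  set X : Q := ⟨x, hxQ⟩
  set L : Q := ⟨l, hlQ⟩
  set Z : Q := ⟨z, hzQ⟩
  have hXL : X * L * X⁻¹ = L * Z := Subtype.ext hxl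
  have hZX : Commute Z X := Subtype.ext hzx
  have hZL : Commute Z L := Subtype.ext hzl
  have hXp : X ^ p = 1 := Subtype.ext (by simpa using hxp)
  have hLp : L ^ p = 1 := Subtype.ext (by simpa using hlp)
  have hZp : Z ^ p = 1 := Subtype.ext (by simpa using hzp)
  have hhL : h L = L ^ α * Z ^ ra := Subtype.ext (by simpa [L, Z] using hhl)
  have hhX : h X = X ^ β * L ^ rb * Z ^ rc := Subtype.ext (by simpa [X, L, Z] using hhx)
  have hZe : Z = ⁅X, L⁆ := by rw [commutatorElement_def, hXL, ← hZL.eq, mul_inv_cancel_right]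
  have hhZ : h Z = Z ^ (α * β) := by
    rw [hZe, map_commutatorElement, hhL, hhX, ← hZe, commutatorElement_def]
    have a1 : Commute (Z ^ rc) (L ^ α * Z ^ ra) :=
      ((hZL.zpow_left rc).zpow_right α).mul_right (Commute.zpow_zpow_self Z rc ra)
    have a2 : Commute (Z ^ ra) (X ^ β * L ^ rb) :=
      ((hZX.zpow_left ra).zpow_right β).mul_right ((hZL.zpow_left ra).zpow_right rb)
    calc X ^ β * L ^ rb * Z ^ rc * (L ^ α * Z ^ ra) * (X ^ β * L ^ rb * Z ^ rc)⁻¹ * (L ^ α * Z ^ ra)⁻¹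
        = X ^ β * L ^ rb * (Z ^ rc * (L ^ α * Z ^ ra) * (Z ^ rc)⁻¹) * (X ^ β * L ^ rb)⁻¹ * (L ^ α * Z ^ ra)⁻¹ := by
          group
      _ = X ^ β * L ^ rb * L ^ α * (Z ^ ra * (X ^ β * L ^ rb)⁻¹) * (Z ^ ra)⁻¹ * (L ^ α)⁻¹ := by
          rw [a1.eq, mul_inv_cancel_right]; group
      _ = X ^ β * (L ^ rb * L ^ α * (L ^ rb)⁻¹) * (X ^ β)⁻¹ * (L ^ α)⁻¹ := by rw [a2.inv_right.eq]; group
      _ = Z ^ (α * β) := by
          rw [(Commute.zpow_zpow_self L rb α).eq, mul_inv_cancel_right, conj_zpow_zpow hXL hZX hZL,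
            (((hZL.zpow_left (β * α)).zpow_right α).symm).eq, mul_inv_cancel_right, mul_comm]
  have hαβ := not_dvd_mul hα hβ
  -- the conjugate of the action of `g`
  set b : MulAut Q := conjAut Q S ⟨g, hgS, hgN⟩ with hbdef
  have hbA : b ∈ F.autGroup Q := autInducedBy_le_autGroup hQS (range_conjAut (P := Q) S ▸ ⟨_, rfl⟩)
  have hbv : ∀ q : Q, ((b q : Q) : Ω) = g * q * g⁻¹ := fun q => rfl
  set δ : MulAut Q := h * b * h⁻¹ with hδdef
  have hδh : ∀ q : Q, δ (h q) = h (b q) := fun q => by simp [hδdef]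
  have hbL : b L = L := Subtype.ext hgl
  have hbZ : b Z = Z := Subtype.ext hgz
  have hbX : b X = X * L * Z ^ n₁ := Subtype.ext (by
    show g * x * g⁻¹ = _
    rw [hgx]; simp [X, L, Z])
  have hδZ : δ Z = Z := fixed_of_zpow_fixed hZp hαβ (by rw [← hhZ, hδh, hbZ])
  have hδL : δ L = L := fixed_of_zpow_fixed hLp hα (mul_right_cancel (b := Z ^ ra) (by
    have h1 := hδh L
    rw [hbL, hhL, map_mul, map_zpow δ Z, hδZ] at h1
    exact h1))
  set bn : MulAut Q := b ^ ν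
  have hbn : ∀ q : Q, ((bn q : Q) : Ω) = g ^ ν * q * (g ^ ν)⁻¹ := by
    intro q
    show (((conjAut Q S ⟨g, hgS, hgN⟩) ^ ν) q : Q).1 = _
    rw [← map_pow]
    rfl
  have hbnL : bn L = L := Subtype.ext (by
    rw [hbn]; show g ^ ν * l * (g ^ ν)⁻¹ = l
    rw [(cgl.pow_left ν).eq, mul_inv_cancel_right])
  have hbnZ : bn Z = Z := Subtype.ext (by
    rw [hbn]; show g ^ ν * z * (g ^ ν)⁻¹ = z
    rw [(cgz.pow_left ν).eq, mul_inv_cancel_right])
  have hbnX : bn X = X * L ^ (ν : ℤ) * Z ^ (n₁ * (ν : ℤ)) := Subtype.ext (by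
    rw [hbn]; show g ^ ν * x * (g ^ ν)⁻¹ = _
    rw [hgpow]; simp [X, L, Z])
  obtain ⟨e, he⟩ := pow_form hXL hZX hZL (ν : ℤ) (n₁ * (ν : ℤ)) βn
  have hbnhX : bn (h X) = X ^ β * L ^ ((ν : ℤ) * β + rb) * Z ^ (e + rc) := by
    rw [hhX, show X ^ β = X ^ (βn : ℤ) from zpow_congr hXp hβn, map_mul, map_mul, map_zpow, map_zpow, map_zpow,
      hbnL, hbnZ]
    conv_lhs => rw [zpow_natCast, hbnX, he]
    rw [zpow_add, zpow_add, mul_assoc (X ^ (βn : ℤ) * _) (Z ^ e), ((hZL.zpow_left e).zpow_right rb).eq,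
      zpow_congr hLp (m := (ν : ℤ) * β) (n := (ν : ℤ) * βn) (by rw [← mul_sub]; exact hβn.mul_left _)]
    simp only [mul_assoc]
  have hδhX : δ (h X) = X ^ β * L ^ ((ν : ℤ) * β + rb) * Z ^ (rc + ra + α * β * n₁) := by
    rw [hδh, hbX, map_mul, map_mul, map_zpow, hhX, hhL, hhZ, ← zpow_mul,
      zpow_congr hLp (m := (ν : ℤ) * β + rb) (n := rb + α) (by convert hν using 1; ring)]
    have a1 : Z ^ rc * L ^ α = L ^ α * Z ^ rc := ((hZL.zpow_left rc).zpow_right α).eq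
    calc X ^ β * L ^ rb * Z ^ rc * (L ^ α * Z ^ ra) * Z ^ (α * β * n₁)
        = X ^ β * L ^ rb * (Z ^ rc * L ^ α) * Z ^ ra * Z ^ (α * β * n₁) := by group
      _ = _ := by rw [a1, zpow_add L, zpow_add Z, zpow_add Z]; group
  obtain ⟨q, hq⟩ : ∃ q : ℤ, (p : ℤ) ∣ e + rc - q * β - (rc + ra + α * β * n₁) := by
    obtain ⟨e', he'⟩ := hβ'
    exact ⟨β' * (e - ra - α * β * n₁), -(e' * (e - ra - α * β * n₁)), by
      linear_combination -(e - ra - α * β * n₁) * he'⟩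
  set G := g ^ ν * l ^ q with hGdef
  have hGS : G ∈ S := S.mul_mem (S.pow_mem hgS _) (S.zpow_mem (hQS hlQ) _)
  have hGN : G ∈ Subgroup.normalizer (Q : Set Ω) :=
    Subgroup.mul_mem _ (Subgroup.pow_mem _ hgN _) (Subgroup.le_normalizer (Q.zpow_mem hlQ _))
  set cG : MulAut Q := conjAut Q S ⟨G, hGS, hGN⟩ with hcGdef
  have hcGA : cG ∈ F.autGroup Q := autInducedBy_le_autGroup hQS (range_conjAut (P := Q) S ▸ ⟨_, rfl⟩)
  have hcG : ∀ w : Q, cG w = bn (L ^ q * w * (L ^ q)⁻¹) := fun w => Subtype.ext (by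
    rw [hbn]
    show G * w * G⁻¹ = g ^ ν * ((L ^ q * w * (L ^ q)⁻¹ : Q) : Ω) * (g ^ ν)⁻¹
    simp only [Subgroup.coe_mul, Subgroup.coe_inv, Subgroup.coe_zpow, hGdef, L]
    group)
  have hcGL : cG L = L := by
    rw [hcG, (Commute.zpow_self L q).eq, mul_inv_cancel_right, hbnL]
  have hcGZ : cG Z = Z := by
    rw [hcG, ← (hZL.zpow_right q).eq, mul_inv_cancel_right, hbnZ]
  have hcGhX : cG (h X) = δ (h X) := by
    have hconj : L ^ q * h X * (L ^ q)⁻¹ = h X * Z ^ (-(q * β)) := by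
      have h0 := conj_zpow_zpow hXL hZX hZL (-β) q
      rw [zpow_neg, inv_inv] at h0
      have h1 : L ^ q * X ^ β = X ^ β * L ^ q * Z ^ (-(q * β)) := by
        rw [mul_assoc (X ^ β), show (-(q * β)) = -β * q by ring, ← h0]; group
      rw [hhX]
      have a1 : Commute (Z ^ (-(q * β))) (L ^ rb * Z ^ rc * (L ^ q)⁻¹) :=
        (((hZL.zpow_left _).zpow_right rb).mul_right (Commute.zpow_zpow_self Z _ rc)).mul_right
          ((hZL.zpow_left _).zpow_right q).inv_right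
      calc L ^ q * (X ^ β * L ^ rb * Z ^ rc) * (L ^ q)⁻¹ = L ^ q * X ^ β * (L ^ rb * Z ^ rc * (L ^ q)⁻¹) := by group
        _ = X ^ β * L ^ q * (L ^ rb * Z ^ rc * (L ^ q)⁻¹) * Z ^ (-(q * β)) := by
            rw [h1, mul_assoc (X ^ β * L ^ q), a1.eq]; group
        _ = X ^ β * (L ^ q * L ^ rb) * (Z ^ rc * (L ^ q)⁻¹) * Z ^ (-(q * β)) := by group
        _ = _ := by
            rw [(Commute.zpow_zpow_self L q rb).eq, ((hZL.zpow_left rc).zpow_right q).inv_right.eq]; group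
    rw [hcG, hconj, map_mul, map_zpow, hbnZ, hbnhX, hδhX, mul_assoc, ← zpow_add]
    congr 1
    exact zpow_congr hZp (by convert hq using 1; ring)
  have hcGX : δ X = cG X := by
    have h2 : δ (X ^ β) = cG (X ^ β) := by
      have e1 : X ^ β = h X * (L ^ rb * Z ^ rc)⁻¹ := by rw [hhX]; group
      rw [e1, map_mul δ, map_mul cG, hcGhX, map_inv, map_inv, map_mul δ, map_mul cG, map_zpow, map_zpow, map_zpow,
        map_zpow, hδL, hδZ, hcGL, hcGZ]
    have e2 : X ^ (β * β') = X := (zpow_congr hXp hβ').trans (zpow_one X)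
    rw [← e2, zpow_mul, map_zpow δ, map_zpow cG, h2]
  -- `δ` is induced by `G`
  obtain ⟨c0, hc0⟩ := hCcyc.exists_generator
  have hc0Q : (c0 : Ω) ∈ Q := hCQ c0.2
  obtain ⟨kk, hkk⟩ := IsPGroup.iff_orderOf.1 (hS.to_le hQS) (⟨c0, hc0Q⟩ : Q)
  set C0 : Q := ⟨c0, hc0Q⟩
  have hCpow : ∀ w : Q, (w : Ω) ∈ C → ∃ i : ℤ, w = C0 ^ i := fun w hw => by
    obtain ⟨i, hi⟩ := Subgroup.mem_zpowers_iff.1 (hc0 ⟨w, hw⟩)
    exact ⟨i, Subtype.ext (by rw [SubgroupClass.coe_zpow]; exact (congrArg Subtype.val hi.symm).trans (by simp [C0]))⟩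
  obtain ⟨s0, hs0⟩ := hCpow Z hzC
  have hext : ∀ σ τ : MulAut Q, σ X = τ X → σ L = τ L → σ C0 = τ C0 → σ = τ := fun σ τ h1 h2 h3 =>
    MulEquiv.ext fun w => by
      obtain ⟨i, j, c, hc, hw⟩ := hgenC w w.2
      obtain ⟨i', hi'⟩ := hCpow ⟨c, hCQ hc⟩ hc
      have hw' : w = C0 ^ i' * (X ^ i * L ^ j) := by
        rw [← hi']; exact Subtype.ext (by simpa [X, L] using hw)
      simp [hw', map_mul, map_zpow, h1, h2, h3]
  have hWgen : ∀ a : MulAut Q, a X = X → a L = L → ∀ w : Q, (w : Ω) ∈ Subgroup.closure ({x, l} : Set Ω) → a w = w := by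
    intro a h1 h2 w hw
    have hmap : Subgroup.closure ({x, l} : Set Ω) = (Subgroup.closure ({X, L} : Set Q)).map Q.subtype := by
      rw [MonoidHom.map_closure, Set.image_pair]; rfl
    rw [hmap] at hw
    obtain ⟨w', hw', e'⟩ := hw
    obtain rfl : w' = w := Subtype.ext e'
    have hle : Subgroup.closure ({X, L} : Set Q) ≤ a.toMonoidHom.eqLocus (MonoidHom.id Q) :=
      (Subgroup.closure_le _).2 (by rintro _ (rfl | rfl); exacts [h1, h2])
    exact hle hw'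
  have hCinv : ∀ a : MulAut Q, a X = X → a L = L → ∃ r : ℤ, a C0 = C0 ^ r := fun a h1 h2 => by
    refine hCpow _ ((hmemC _).2 ⟨hQS (a C0).2, ?_, ?_⟩)
    · have := congrArg (fun w : Q => (w : Ω)) (congrArg a (show X * C0 = C0 * X from
        Subtype.ext ((hmemC _).1 c0.2).2.1.eq))
      simp only [map_mul, h1, Subgroup.coe_mul] at this
      exact this
    · have := congrArg (fun w : Q => (w : Ω)) (congrArg a (show L * C0 = C0 * L from
        Subtype.ext ((hmemC _).1 c0.2).2.2.eq))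
      simp only [map_mul, h2, Subgroup.coe_mul] at this
      exact this
  have hkk1 : kk ≠ 0 := by
    rintro rfl
    rw [pow_zero, orderOf_eq_one_iff] at hkk
    exact hz1 (congrArg Subtype.val (show Z = 1 by rw [hs0, hkk, one_zpow]))
  have hpk : p ∣ p ^ kk := dvd_pow_self p hkk1
  have hs0' : ¬ (p : ℤ) ^ kk ∣ s0 := fun hd => hz1 (congrArg Subtype.val (show Z = 1 by
    rw [hs0, ← orderOf_dvd_iff_zpow_eq_one, hkk]; exact_mod_cast hd))
  have hrmod : ∀ r : ℤ, Z ^ r = Z → (p : ℤ) ∣ r - 1 := fun r hr => by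
    have h1 : Z ^ (r - 1) = 1 := by rw [zpow_sub_one, hr, mul_inv_cancel]
    rw [← orderOf_dvd_iff_zpow_eq_one, orderOf_eq_prime hZp (fun e => hz1 (congrArg Subtype.val e))] at h1
    exact h1
  have hpowr : ∀ r : ℤ, (p : ℤ) ∣ r - 1 → C0 ^ (r ^ p ^ kk) = C0 := fun r hr => by
    have h1 := dvd_sub_pow_of_dvd_sub (R := ℤ) (p := p) (a := r) (b := 1) hr kk
    rw [one_pow] at h1
    conv_rhs => rw [← zpow_one C0]
    rw [← sub_eq_zero.1 (sub_self (1 : ℤ)), zpow_eq_zpow_iff_modEq, hkk, Int.modEq_iff_dvd]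
    have h2 : ((p : ℤ)) ^ kk ∣ (p : ℤ) ^ (kk + 1) := pow_dvd_pow _ (Nat.le_succ kk)
    push_cast
    rw [← neg_sub, dvd_neg]
    exact h2.trans h1
  set A := F.autGroup Q
  let D : Subgroup A :=
    { carrier := {a | (a : MulAut Q) X = X ∧ (a : MulAut Q) L = L}
      one_mem' := ⟨rfl, rfl⟩
      mul_mem' := fun {a c} ha hc => ⟨by rw [Subgroup.coe_mul, MulAut.mul_apply, hc.1, ha.1], by
        rw [Subgroup.coe_mul, MulAut.mul_apply, hc.2, ha.2]⟩
      inv_mem' := fun {a} ha => ⟨by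
        rw [Subgroup.coe_inv]; conv_lhs => rw [← ha.1]
        exact MulAut.inv_apply_self _ _ X, by
        rw [Subgroup.coe_inv]; conv_lhs => rw [← ha.2]
        exact MulAut.inv_apply_self _ _ L⟩ }
  haveI : D.Normal := ⟨fun a ha c => by
    have hfx : ∀ w : Q, (w : Ω) ∈ Subgroup.closure ({x, l} : Set Ω) →
        ((c * a * c⁻¹ : A) : MulAut Q) w = w := fun w hw => by
      rw [Subgroup.coe_mul, Subgroup.coe_mul, Subgroup.coe_inv, MulAut.mul_apply, MulAut.mul_apply,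
        hWgen _ ha.1 ha.2 _ (hW _ (inv_mem c.2) w hw), MulAut.apply_inv_self]
    exact ⟨hfx X (Subgroup.subset_closure (Set.mem_insert _ _)),
      hfx L (Subgroup.subset_closure (Set.mem_insert_of_mem _ rfl))⟩⟩
  have hDp : IsPGroup p D := fun a => ⟨kk, Subtype.ext (Subtype.ext (by
    obtain ⟨r, hr⟩ := hCinv _ a.2.1 a.2.2
    have hz' : ((a : A) : MulAut Q) Z = Z := by rw [hZe, map_commutatorElement, a.2.1, a.2.2]
    have hr1 : (p : ℤ) ∣ r - 1 := hrmod r (by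
      conv_rhs => rw [← hz', hs0, map_zpow, hr, ← zpow_mul, mul_comm, zpow_mul, ← hs0])
    have hit : ∀ m : ℕ, (((a : A) : MulAut Q) ^ m) C0 = C0 ^ (r ^ m) := by
      intro m
      induction m with
      | zero => simp
      | succ m ih => rw [pow_succ, MulAut.mul_apply, hr, map_zpow, ih, ← zpow_mul, pow_succ]
    have hfix : ∀ (m : ℕ) (w : Q), ((a : A) : MulAut Q) w = w → (((a : A) : MulAut Q) ^ m) w = w := fun m w hw => by
      induction m with
      | zero => rfl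
      | succ m ih => rw [pow_succ, MulAut.mul_apply, hw, ih]
    show ((a : A) : MulAut Q) ^ p ^ kk = 1
    exact hext _ _ (hfix _ X a.2.1) (hfix _ L a.2.2) (by rw [hit, hpowr r hr1]; rfl)))⟩
  obtain ⟨-, T, hT⟩ := fullyAutomized_of_fullyNormalized hS hF hQn
  have hDT : D ≤ (T : Subgroup A) := hDp.le_sylow_of_normal T
  have hδA : δ ∈ A := mul_mem (mul_mem hh hbA) (inv_mem hh)
  have hεD : (⟨cG, hcGA⟩⁻¹ * ⟨δ, hδA⟩ : A) ∈ D := ⟨by
      rw [Subgroup.coe_mul, Subgroup.coe_inv, MulAut.mul_apply]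
      show cG⁻¹ (δ X) = X
      rw [hcGX, MulAut.inv_apply_self], by
      rw [Subgroup.coe_mul, Subgroup.coe_inv, MulAut.mul_apply]
      show cG⁻¹ (δ L) = L
      rw [hδL]; conv_lhs => rw [← hcGL]
      rw [MulAut.inv_apply_self]⟩
  have hε : cG⁻¹ * δ ∈ autInducedBy S Q := Subgroup.mem_subgroupOf.1 (hT ▸ hDT hεD)
  have hδG : δ = cG := by
    obtain ⟨s, hsS, hs⟩ := mem_autInducedBy.1 hε
    have hfixW : ∀ w : Q, (cG⁻¹ * δ) w = w → Commute (w : Ω) s := fun w hw => by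
      have := hs w
      rw [hw, eq_mul_inv_iff_mul_eq] at this
      exact this
    have hsC : s ∈ C := (hmemC s).2 ⟨hsS, hfixW X hεD.1, hfixW L hεD.2⟩
    have h1 : cG⁻¹ * δ = 1 := MulEquiv.ext fun w => Subtype.ext (by
      rw [hs w, (hcomQ s hsC w w.2).eq, mul_inv_cancel_right]; rfl)
    exact (inv_mul_eq_one.1 h1).symm
  -- extend `h`
  set φ : Q →* Ω := Q.subtype.comp (h : Q ≃* Q).toMonoidHom
  have hφ : φ ∈ F.Hom Q := (mem_autGroup hQS).1 hh
  have hr : φ.range = Q := CfsgLib.MetaResistant.subgroupOf_range_top (F.injective_of_mem hφ) hQS fun y => (h y).2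
  have hgx' : g ∈ extender S Q φ := mem_extender.2 ⟨hgS, hgN, G, hGS, fun w hw => by
    have := congrArg (fun f : MulAut Q => ((f (h w) : Q) : Ω)) hδG
    simp only [hδh] at this
    exact this⟩
  obtain ⟨χ, hχ, hag⟩ := (receptive_of_fullyNormalized hS hF hQn).2 Q φ hφ hr
  set G' := χ ⟨g, hgx'⟩ with hG'def
  have hG'S : G' ∈ S := val_mem hχ _
  have hQe : Q ≤ extender S Q φ := fun w hw => mem_extender.2 ⟨hQS hw, Subgroup.le_normalizer hw,
    φ ⟨w, hw⟩, val_mem hφ _, fun u hu => by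
      rw [← map_inv, ← map_mul, ← map_mul]
      exact congrArg φ (Subtype.ext rfl)⟩
  have hG'conj : ∀ w : Q, G' * ((h w : Q) : Ω) * G'⁻¹ = ((cG (h w) : Q) : Ω) := fun w => by
    have e1 : χ ⟨w, hQe w.2⟩ = ((h w : Q) : Ω) := hag w w.2 _
    have e2 : χ ⟨(b w : Q), hQe (b w).2⟩ = ((h (b w) : Q) : Ω) := hag _ (b w).2 _
    rw [← hδG, hδh, ← e2, hG'def, ← e1, ← map_inv, ← map_mul, ← map_mul]
    exact congrArg χ (Subtype.ext rfl)
  set c1 := G⁻¹ * G' with hc1def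
  have hc1C : c1 ∈ C := hCSQ _ ⟨S.mul_mem (S.inv_mem hGS) hG'S, Subgroup.mem_centralizer_iff.2 fun w hw => by
    obtain ⟨w', hw'⟩ : ∃ w' : Q, h w' = ⟨w, hw⟩ := ⟨h.symm ⟨w, hw⟩, h.apply_symm_apply _⟩
    have e1 := hG'conj w'
    rw [hw'] at e1
    have e2 : G' * w * G'⁻¹ = G * w * G⁻¹ := e1
    calc w * (G⁻¹ * G') = G⁻¹ * (G * w * G⁻¹) * G' := by group
      _ = G⁻¹ * G' * w := by rw [← e2]; group⟩
  -- the action on `C`
  have hgC : ∀ c ∈ C, g * c * g⁻¹ ∈ C := fun c hc => by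
    obtain ⟨hcS, h1, h2⟩ := (hmemC c).1 hc
    have k1 : Commute (g * l * g⁻¹) (g * c * g⁻¹) := (h2.map (MulAut.conj g).toMonoidHom :)
    have k2 : Commute (g * x * g⁻¹) (g * c * g⁻¹) := (h1.map (MulAut.conj g).toMonoidHom :)
    have k3 : Commute (g * z * g⁻¹) (g * c * g⁻¹) :=
      (((hcomQ c hc z hzQ).symm).map (MulAut.conj g).toMonoidHom :)
    rw [hgl] at k1; rw [hgz] at k3; rw [hgx] at k2
    refine (hmemC _).2 ⟨S.mul_mem (S.mul_mem hgS hcS) (S.inv_mem hgS), ?_, k1⟩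
    have := (k2.mul_left (k3.zpow_left n₁).inv_left).mul_left k1.inv_left
    rwa [mul_inv_cancel_right, mul_inv_cancel_right] at this
  obtain ⟨r, hr'⟩ := hCpow (b C0) (hgC _ c0.2)
  obtain ⟨γ', hγ'⟩ : ∃ γ' : ℤ, h C0 = C0 ^ γ' := by
    refine hCpow _ ((hmemC _).2 ⟨hQS (h C0).2, ?_⟩)
    have hc : ∀ w : Q, C0 * w = w * C0 := fun w => Subtype.ext (hcomQ _ c0.2 w w.2).eq
    have hcw : ∀ w : Q, Commute ((w : Q) : Ω) ((h C0 : Q) : Ω) := fun w => by
      have := congrArg (fun v : Q => (v : Ω)) (congrArg h (hc (h.symm w)))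
      simp only [map_mul, MulEquiv.apply_symm_apply, Subgroup.coe_mul] at this
      exact this.symm
    exact ⟨hcw X, hcw L⟩
  have hr1 : (p : ℤ) ∣ r - 1 := hrmod r (by
    conv_rhs => rw [← hbZ, hs0, map_zpow, hr', ← zpow_mul, mul_comm, zpow_mul, ← hs0])
  have hγ'1 : (p : ℤ) ∣ γ' - α * β := by
    have h1 : Z ^ γ' = Z ^ (α * β) := by
      rw [← hhZ]
      conv_rhs => rw [hs0, map_zpow, hγ', ← zpow_mul, mul_comm, zpow_mul, ← hs0]
    rw [← mul_inv_eq_one, ← zpow_sub, ← orderOf_dvd_iff_zpow_eq_one,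
      orderOf_eq_prime hZp (fun e => hz1 (congrArg Subtype.val e))] at h1
    exact h1
  have hgc0 : Commute g (c0 : Ω) := by
    rcases hC with hne | hC
    · -- `r ^ ν = r` modulo the order, and `r` has order a power of `p`
      have hit : ∀ m : ℕ, (b ^ m) C0 = C0 ^ (r ^ m) := by
        intro m
        induction m with
        | zero => simp
        | succ m ih => rw [pow_succ, MulAut.mul_apply, hr', map_zpow, ih, ← zpow_mul, pow_succ]
      have e1 : δ (h C0) = (C0 ^ γ') ^ r := by rw [hδh, hr', map_zpow, hγ']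
      have e2 : cG (h C0) = (C0 ^ γ') ^ (r ^ ν) := by
        rw [hγ', map_zpow, hcG, ← (show C0 * L ^ q = L ^ q * C0 from
          Subtype.ext (hcomQ _ c0.2 _ (L ^ q).2).eq), mul_inv_cancel_right, hit, ← zpow_mul, ← zpow_mul, mul_comm]
      rw [← hδG] at e2
      have h3 : ((r ^ ν : ℤ) : ZMod (p ^ kk)) = (r : ZMod (p ^ kk)) := by
        have h4 := e2.symm.trans e1
        rw [← zpow_mul, ← zpow_mul, zpow_eq_zpow_iff_modEq, hkk, ← ZMod.intCast_eq_intCast_iff] at h4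
        have hu : IsUnit (γ' : ZMod (p ^ kk)) := by
          rw [ZMod.coe_int_isUnit_iff_isCoprime]
          push_cast
          refine IsCoprime.pow_left (((Nat.prime_iff_prime_int.1 hp.out).coprime_iff_not_dvd).2 ?_)
          intro hd
          exact hαβ (by have := dvd_sub hd hγ'1; rwa [sub_sub_cancel] at this)
        push_cast at h4 ⊢
        exact hu.mul_left_cancel h4
      have h5 : ((r : ZMod (p ^ kk))) ^ (p ^ kk) = 1 := by
        have := hpowr r hr1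
        conv_rhs at this => rw [← zpow_one C0]
        rw [zpow_eq_zpow_iff_modEq, hkk, ← ZMod.intCast_eq_intCast_iff] at this
        push_cast at this
        exact this
      push_cast at h3
      obtain ⟨m, hm⟩ : ∃ m, ν = m + 1 := ⟨ν - 1, by
        have : ν ≠ 0 := by
          rintro rfl
          exact hα (by simpa using hν)
        omega⟩
      have h6 : (r : ZMod (p ^ kk)) ^ m = 1 := by
        have hu : IsUnit (r : ZMod (p ^ kk)) :=
          IsUnit.of_pow_eq_one h5 (pow_ne_zero _ hp.out.ne_zero)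
        rw [hm, pow_succ] at h3
        exact hu.mul_right_cancel (h3.trans (one_mul _).symm)
      have hmp : ¬ p ∣ m := fun hd => hne (by
        obtain ⟨u1, hu1⟩ := hν
        obtain ⟨u2, hu2⟩ := hd
        rw [hm, hu2] at hu1
        push_cast at hu1
        exact ⟨(u2 : ℤ) * β - u1, by linear_combination -hu1⟩)
      have h7 : (r : ZMod (p ^ kk)) = 1 := by
        have := pow_gcd_eq_one.2 ⟨h6, h5⟩
        rwa [Nat.Coprime.pow_right kk (hp.out.coprime_iff_not_dvd.2 hmp).symm, pow_one] at this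
      have h8 : C0 ^ r = C0 := by
        conv_rhs => rw [← zpow_one C0]
        rw [zpow_eq_zpow_iff_modEq, hkk, ← ZMod.intCast_eq_intCast_iff]
        push_cast
        exact h7
      have := congrArg (fun v : Q => (v : Ω)) (hr'.trans h8)
      exact (mul_inv_eq_iff_eq_mul.1 this :)
    · have h0 := hC c0 hc0Q ((hmemC _).1 c0.2).2.1 ((hmemC _).1 c0.2).2.2
      exact h0.mul_left ((((hmemC _).1 c0.2).2.1).zpow_left k)
  have hgcall : ∀ c ∈ C, Commute g c := fun c hc => by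
    obtain ⟨i, hi⟩ := Subgroup.mem_zpowers_iff.1 (hc0 ⟨c, hc⟩)
    have : c = (c0 : Ω) ^ i := by rw [← SubgroupClass.coe_zpow, hi]
    rw [this]
    exact hgc0.zpow_right i
  -- `g ^ p`
  have hgpC : g ^ p ∈ C := (hmemC _).2 ⟨S.pow_mem hgS _, by
    have := hgpow p
    rw [zpow_natCast, hlp, mul_one, zpow_eq_one_of_dvd hzp (dvd_mul_left _ _), mul_one] at this
    exact (mul_inv_eq_iff_eq_mul.1 this).symm, (cgl.pow_left p).symm⟩
  obtain ⟨a, ha⟩ := hCpow ⟨g ^ p, hCQ hgpC⟩ hgpC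
  obtain ⟨bb, hbb⟩ := hCpow ⟨c1, hCQ hc1C⟩ hc1C
  have hG'eq : G' = g ^ ν * l ^ q * c1 := by rw [hc1def, hGdef]; group
  have hpow : G' ^ p = (g ^ p) ^ ν * c1 ^ p := by
    have hl1 : Commute (l : Ω) c1 := ((hmemC _).1 hc1C).2.2
    have hc' : Commute (g ^ ν * l ^ q) c1 := ((hgcall c1 hc1C).pow_left ν).mul_left (hl1.zpow_left q)
    rw [hG'eq, hc'.mul_pow, ((cgl.zpow_right q).pow_left ν).mul_pow, ← zpow_natCast (l ^ q), ← zpow_mul,
      zpow_eq_one_of_dvd hlp (dvd_mul_left _ _), mul_one, ← pow_mul, mul_comm ν, pow_mul]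
  have hkey : C0 ^ (γ' * a) = C0 ^ (a * ν + bb * p) := by
    refine Subtype.ext ?_
    have e1 : χ ⟨g ^ p, hQe (hCQ hgpC)⟩ = ((h ⟨g ^ p, hCQ hgpC⟩ : Q) : Ω) := hag _ (hCQ hgpC) _
    have e2 : χ ⟨g ^ p, hQe (hCQ hgpC)⟩ = G' ^ p := by
      rw [hG'def, ← map_pow]; exact congrArg χ (Subtype.ext rfl)
    rw [e2, ha, map_zpow, hγ', ← zpow_mul, hpow] at e1
    rw [← e1, zpow_add, zpow_mul, zpow_mul, zpow_natCast, zpow_natCast, ← ha, ← hbb]
    rfl
  have hpa : (p : ℤ) ∣ a := by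
    rw [zpow_eq_zpow_iff_modEq, hkk, Int.modEq_iff_dvd] at hkey
    have h1 : (p : ℤ) ∣ a * ν + bb * p - γ' * a :=
      dvd_trans (by exact_mod_cast hpk) hkey
    by_contra hna
    have h2 : ¬ (p : ℤ) ∣ α * (β * β - 1) := not_dvd_mul hα hβ2
    refine h2 (((Nat.prime_iff_prime_int.1 hp.out).dvd_or_dvd (a := a) ?_).resolve_left hna)
    obtain ⟨u1, hu1⟩ := h1
    obtain ⟨u2, hu2⟩ := hγ'1
    obtain ⟨u3, hu3⟩ := hν
    exact ⟨-(β * u1) - a * β * u2 + a * u3 + β * bb, by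
      linear_combination -β * hu1 - a * β * hu2 + a * hu3⟩
  obtain ⟨a', rfl⟩ := hpa
  set g' := g * ((c0 : Ω) ^ a')⁻¹ with hg'def
  have hg'p : g' ^ p = 1 := by
    rw [hg'def, ((hgc0.zpow_right a').inv_right).mul_pow, inv_pow, ← zpow_natCast ((c0 : Ω) ^ a'), ← zpow_mul,
      mul_inv_eq_one]
    have := congrArg (fun v : Q => (v : Ω)) ha
    simp only [SubgroupClass.coe_zpow, C0] at this
    rw [this, mul_comm]
  -- an elementary abelian group of order `p³`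
  set B := Subgroup.closure ({z, l, g'} : Set Ω) with hBdef
  have hg'S : g' ∈ S := S.mul_mem hgS (S.inv_mem (S.zpow_mem c0.2.1 _))
  have cg'l : Commute g' l := cgl.mul_left ((((hmemC _).1 c0.2).2.2.symm).zpow_left a').inv_left
  have cg'z : Commute g' z := cgz.mul_left (((hcomQ _ c0.2 z hzQ).zpow_left a')).inv_left
  have hBc : IsMulCommutative B := Subgroup.isMulCommutative_closure (by
    rintro u (rfl | rfl | rfl) v (rfl | rfl | rfl)
    all_goals first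
      | rfl
      | exact hzl.eq | exact hzl.eq.symm | exact cg'l.eq | exact cg'l.eq.symm | exact cg'z.eq | exact cg'z.eq.symm)
  have hBexp : ∀ u ∈ B, u ^ p = 1 := by
    intro u hu
    induction hu using Subgroup.closure_induction with
    | mem u hu => rcases hu with rfl | rfl | rfl <;> assumption
    | one => exact one_pow _
    | mul u v hu hv ihu ihv =>
      rw [(show Commute u v from congrArg Subtype.val (hBc.is_comm.comm (⟨u, hu⟩ : B) ⟨v, hv⟩)).mul_pow, ihu, ihv,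
        one_mul]
    | inv u _ ih => rw [inv_pow, ih, inv_one]
  have hBS : B ≤ S := (Subgroup.closure_le _).2 (by
    rintro u (rfl | rfl | rfl)
    exacts [hQS hzQ, hQS hlQ, hg'S])
  have h2 := hrk B hBS ⟨hBc, hBexp⟩
  haveI := finite_of_le hBS
  set B2 := B ⊓ Q
  haveI : Finite B2 := Finite.of_injective (Subgroup.inclusion (inf_le_left : B2 ≤ B)) (Subgroup.inclusion_injective _)
  have hg'Q : g' ∉ Q := fun h => hgQ (by
    have := Q.mul_mem h (Q.zpow_mem hc0Q a')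
    rwa [hg'def, inv_mul_cancel_right] at this)
  have hlt1 : Subgroup.zpowers z < B2 := lt_of_le_of_ne
    (Subgroup.zpowers_le.2 ⟨Subgroup.subset_closure (by simp), hzQ⟩) fun e => by
      have hlz : l ∈ Subgroup.zpowers z := e.ge ⟨Subgroup.subset_closure (by simp), hlQ⟩
      obtain ⟨i, rfl⟩ := Subgroup.mem_zpowers_iff.1 hlz
      exact hnxl (hzx.symm.zpow_right i)
  have hlt2 : B2 < B := lt_of_le_of_ne inf_le_left fun e =>
    hg'Q (e.ge (Subgroup.subset_closure (by simp))).2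
  have c1' := Set.ncard_lt_ncard (SetLike.coe_ssubset_coe.2 hlt1) (Set.toFinite _)
  have c2' := Set.ncard_lt_ncard (SetLike.coe_ssubset_coe.2 hlt2) (Set.toFinite _)
  change Nat.card (Subgroup.zpowers z) < Nat.card B2 at c1'
  change Nat.card B2 < Nat.card B at c2'
  obtain ⟨i1, hi1⟩ := IsPGroup.iff_card.1 (hS.to_le ((inf_le_left : B2 ≤ B).trans hBS))
  obtain ⟨i2, hi2⟩ := IsPGroup.iff_card.1 (hS.to_le hBS)
  rw [Nat.card_zpowers, orderOf_eq_prime hzp hz1, hi1] at c1'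
  rw [hi1, hi2, Nat.pow_lt_pow_iff_right hp.out.one_lt] at c2'
  rw [hi2, Nat.pow_le_pow_iff_right hp.out.one_lt] at h2
  have h3 := (Nat.pow_lt_pow_iff_right hp.out.one_lt (n := 1) (m := i1)).1 (by rwa [pow_one])
  omega

end CfsgLib.RankTwoResistant
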