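import Cfsg.Agent.RankTwoResistant.Basic
import Cfsg.Agent.RankTwoResistant.Extend

/-!
A characteristic subgroup of order `p³` and exponent `p`, seen modulo its centre.
-/

set_option autoImplicit false
set_option linter.style.haveILetI false

open scoped commutatorElement

namespace CfsgLib.RankTwoResistant

open Cfsg Cfsg.FusionSystem CfsgLib.Fusion

variable {p : ℕ} [hp : Fact p.Prime]

section Quot

variable {W : Type*} [Group W]

lemma map_center (σ : MulAut W) : (Subgroup.center W).map σ.toMonoidHom = Subgroup.center W :=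
  Subgroup.characteristic_iff_map_eq.1 inferInstance σ

/-- The action on the quotient by the centre. -/
def modCenter : MulAut W →* MulAut (W ⧸ Subgroup.center W) where
  toFun σ := QuotientGroup.congr (Subgroup.center W) (Subgroup.center W) σ (map_center σ)
  map_one' := MulEquiv.ext fun v => by
    obtain ⟨w, rfl⟩ := QuotientGroup.mk_surjective v; rfl
  map_mul' σ τ := MulEquiv.ext fun v => by
    obtain ⟨w, rfl⟩ := QuotientGroup.mk_surjective v; rfl

lemma modCenter_mk (σ : MulAut W) (w : W) :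
    modCenter σ (QuotientGroup.mk w : W ⧸ Subgroup.center W) = QuotientGroup.mk (σ w) := rfl

/-- The facts used about a group of order `p³`, exponent `p`, without abelian subgroup of that order. -/
structure Heis (p : ℕ) (W : Type*) [Group W] : Prop where
  fin : Finite W
  exp : ∀ w : W, w ^ p = 1
  cardZ : Nat.card (Subgroup.center W) = p
  cardV : Nat.card (W ⧸ Subgroup.center W) = p ^ 2
  expV : ∀ v : W ⧸ Subgroup.center W, v ^ p = 1

theorem heis [Finite W] (hexp : ∀ w : W, w ^ p = 1) (hcard : Nat.card W = p ^ 3) (hnc : ¬ IsMulCommutative W) :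
    Heis p W := by
  have hW : IsPGroup p W := IsPGroup.of_card hcard
  haveI : Nontrivial W := by
    by_contra h
    rw [not_nontrivial_iff_subsingleton] at h
    exact hnc ⟨⟨fun a b => Subsingleton.elim _ _⟩⟩
  haveI := hW.center_nontrivial
  obtain ⟨k, hk⟩ := IsPGroup.iff_card.1 (hW.to_subgroup (Subgroup.center W))
  have h1 : 1 < Nat.card (Subgroup.center W) := Finite.one_lt_card
  have hk0 : k ≠ 0 := fun e => by rw [hk, e, pow_zero] at h1; omega
  have hm := Subgroup.card_eq_card_quotient_mul_card_subgroup (Subgroup.center W)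
  rw [hcard, hk] at hm
  have hk3 : k ≤ 3 := by
    have := Subgroup.card_subgroup_dvd_card (Subgroup.center W)
    rw [hcard, hk] at this
    exact (Nat.pow_dvd_pow_iff_le_right hp.out.one_lt).1 this
  have hV : Nat.card (W ⧸ Subgroup.center W) = p ^ (3 - k) := by
    refine Nat.eq_of_mul_eq_mul_right (pow_pos hp.out.pos k) ?_
    rw [← hm, ← pow_add, Nat.sub_add_cancel hk3]
  have hk1 : k = 1 := by
    by_contra hne
    haveI : IsCyclic (W ⧸ Subgroup.center W) := by
      rcases (show k = 2 ∨ k = 3 by omega) with rfl | rfl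
      · exact isCyclic_of_prime_card (p := p) (by simpa using hV)
      · haveI : Subsingleton (W ⧸ Subgroup.center W) := (Nat.card_eq_one_iff_unique.1 (by simpa using hV)).1
        exact isCyclic_of_subsingleton
    exact hnc ⟨⟨commutative_of_cyclic_center_quotient (QuotientGroup.mk' (Subgroup.center W))
      (by rw [QuotientGroup.ker_mk'])⟩⟩
  subst hk1
  refine ⟨inferInstance, hexp, by simpa using hk, hV, fun v => ?_⟩
  obtain ⟨w, rfl⟩ := QuotientGroup.mk_surjective v
  rw [← QuotientGroup.mk_pow, hexp, QuotientGroup.mk_one]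

/-- Lifts of a basis of the quotient. -/
theorem Heis.basis (hH : Heis p W) {x l : W}
    (hl : (QuotientGroup.mk l : W ⧸ Subgroup.center W) ≠ 1)
    (hx : (QuotientGroup.mk x : W ⧸ Subgroup.center W) ∉ Subgroup.zpowers (QuotientGroup.mk l)) :
    l⁻¹ * (x * l * x⁻¹) ∈ Subgroup.center W ∧ l⁻¹ * (x * l * x⁻¹) ≠ 1 ∧
      ∀ c ∈ Subgroup.center W, ∃ i : ℤ, (l⁻¹ * (x * l * x⁻¹)) ^ i = c := by
  haveI := hH.fin
  have hcomm := IsPGroup.commutative_of_card_eq_prime_sq hH.cardV
  have hzc : l⁻¹ * (x * l * x⁻¹) ∈ Subgroup.center W := by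
    rw [← QuotientGroup.eq_one_iff]
    simp only [QuotientGroup.mk_mul, QuotientGroup.mk_inv]
    rw [hcomm (x : W ⧸ Subgroup.center W) (l : W ⧸ Subgroup.center W), mul_inv_cancel_right, inv_mul_cancel]
  have hne : l⁻¹ * (x * l * x⁻¹) ≠ 1 := fun h => by
    rw [inv_mul_eq_one, eq_mul_inv_iff_mul_eq] at h
    have hgen := sup_zpowers_eq_top hH.cardV hH.expV hl hx
    set K := Subgroup.closure ({x, l} : Set W) ⊔ Subgroup.center W
    have hKtop : K = ⊤ := by
      refine eq_top_iff.2 fun w _ => ?_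
      have hw : (QuotientGroup.mk w : W ⧸ Subgroup.center W) ∈ K.map (QuotientGroup.mk' _) := by
        have hle : Subgroup.zpowers (QuotientGroup.mk l : W ⧸ Subgroup.center W) ⊔
            Subgroup.zpowers (QuotientGroup.mk x : W ⧸ Subgroup.center W) ≤ K.map (QuotientGroup.mk' _) :=
          sup_le (Subgroup.zpowers_le.2 ⟨l, Subgroup.mem_sup_left (Subgroup.subset_closure (by simp)), rfl⟩)
            (Subgroup.zpowers_le.2 ⟨x, Subgroup.mem_sup_left (Subgroup.subset_closure (by simp)), rfl⟩)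
        rw [hgen] at hle
        exact hle (Subgroup.mem_top _)
      obtain ⟨k, hk, e⟩ := hw
      rw [QuotientGroup.mk'_apply, QuotientGroup.eq] at e
      have := K.mul_mem hk (Subgroup.mem_sup_right e)
      rwa [mul_inv_cancel_left] at this
    have hlc : l ∈ Subgroup.center W := by
      rw [Subgroup.mem_center_iff]
      intro w
      have hle : K ≤ Subgroup.centralizer {l} := sup_le ((Subgroup.closure_le _).2 (by
        rintro _ (rfl | rfl)
        · exact Subgroup.mem_centralizer_singleton_iff.2 h.symm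
        · exact Subgroup.mem_centralizer_singleton_iff.2 rfl))
        (Subgroup.center_le_centralizer _)
      exact Subgroup.mem_centralizer_singleton_iff.1 (hle (hKtop ▸ Subgroup.mem_top w))
    exact hl ((QuotientGroup.eq_one_iff l).2 hlc)
  refine ⟨hzc, hne, fun c hc => ?_⟩
  have hz : Subgroup.zpowers (l⁻¹ * (x * l * x⁻¹)) = Subgroup.center W :=
    Subgroup.eq_of_le_of_card_ge (Subgroup.zpowers_le.2 hzc)
      (by rw [Nat.card_zpowers, orderOf_eq_prime (hH.exp _) hne, hH.cardZ])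
  exact Subgroup.mem_zpowers_iff.1 (hz.ge hc)

end Quot

variable {Ω : Type*} [Group Ω] {S : Subgroup Ω} [Finite S] {F : Cfsg.FusionSystem S} {Q : Subgroup Ω}

/-- The representation on `W / Z(W)`. -/
noncomputable def rep (F : Cfsg.FusionSystem S) (W : Subgroup Q) [W.Characteristic] :
    F.autGroup Q →* MulAut (W ⧸ Subgroup.center W) :=
  (modCenter.comp (MulAut.characteristic W)).comp (F.autGroup Q).subtype

lemma rep_mk (W : Subgroup Q) [W.Characteristic] (a : F.autGroup Q) (w : W) :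
    rep F W a (QuotientGroup.mk w) = QuotientGroup.mk (MulAut.characteristic W (a : MulAut Q) w) := rfl

lemma val_characteristic (W : Subgroup Q) [W.Characteristic] (σ : MulAut Q) (w : W) :
    ((MulAut.characteristic W σ w : W) : Q) = σ (w : Q) := rfl

/-- A diagonal automorphism on the plane of a characteristic Heisenberg subgroup is impossible. -/
theorem false_of_frame (hp5 : 5 ≤ p) (hS : IsPGroup p S) (hF : F.IsSaturated p)
    (hrk : ∀ A : Subgroup Ω, A ≤ S → Cfsg.IsElementaryAbelian p A → Nat.card A ≤ p ^ 2)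
    (hQn : F.IsFullyNormalized Q) (hQc : centralizerIn S Q ≤ Q) (W : Subgroup Q) [W.Characteristic]
    (hH : Heis p W)
    (hinn : ∀ q : Q, modCenter (MulAut.characteristic W (MulAut.conj q)) = 1)
    {g : Ω} (hgS : g ∈ S) (hgN : g ∈ Subgroup.normalizer (Q : Set Ω)) (hgQ : g ∉ Q)
    (hb : conjAut Q S ⟨g, hgS, hgN⟩ ∈ F.autGroup Q)
    {l' x' : W ⧸ Subgroup.center W} (hl'1 : l' ≠ 1) (hx' : x' ∉ Subgroup.zpowers l')
    (htl : rep F W ⟨_, hb⟩ l' = l') (htx : rep F W ⟨_, hb⟩ x' = x' * l')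
    {h : F.autGroup Q} {α β : ℤ} (hhl : rep F W h l' = l' ^ α) (hhx : rep F W h x' = x' ^ β)
    (hβ : ¬ (p : ℤ) ∣ β) (hβ2 : ¬ (p : ℤ) ∣ β * β - 1)
    (hC : ¬ (p : ℤ) ∣ α - β ∨ ∀ c ∈ Q, (∀ w : W, Commute ((w : Q) : Ω) c) → Commute g c) : False := by
  haveI := hH.fin
  obtain ⟨lW, rfl⟩ := QuotientGroup.mk_surjective l'
  obtain ⟨xW, rfl⟩ := QuotientGroup.mk_surjective x'
  obtain ⟨hzc, hz1, hzg⟩ := hH.basis hl'1 hx'
  set zW := lW⁻¹ * (xW * lW * xW⁻¹) with hzW
  -- equalities modulo the centre, in `Ω`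
  have hlift : ∀ u v : W, (QuotientGroup.mk u : W ⧸ Subgroup.center W) = QuotientGroup.mk v →
      ∃ i : ℤ, ((u : Q) : Ω) = ((v : Q) : Ω) * ((zW : Q) : Ω) ^ i := fun u v e => by
    obtain ⟨i, hi⟩ := hzg _ (QuotientGroup.eq.1 e.symm)
    refine ⟨i, ?_⟩
    have : u = v * zW ^ i := by rw [hi, mul_inv_cancel_left]
    rw [this]; simp
  have hval : ∀ (a : MulAut Q) (w : W), (((MulAut.characteristic W a w : W) : Q) : Ω) = ((a (w : Q) : Q) : Ω) :=
    fun a w => rfl
  obtain ⟨n₂, hn₂⟩ := hlift _ _ ((rep_mk W _ lW).symm.trans htl)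
  obtain ⟨n₁, hn₁⟩ := hlift (MulAut.characteristic W (conjAut Q S ⟨g, hgS, hgN⟩) xW) (xW * lW)
    ((rep_mk W _ xW).symm.trans (htx.trans (QuotientGroup.mk_mul _ _ _).symm))
  obtain ⟨ra, hra⟩ := hlift (MulAut.characteristic W (h : MulAut Q) lW) (lW ^ α)
    ((rep_mk W _ lW).symm.trans (hhl.trans (QuotientGroup.mk_zpow _ _ _).symm))
  obtain ⟨rc, hrc⟩ := hlift (MulAut.characteristic W (h : MulAut Q) xW) (xW ^ β)
    ((rep_mk W _ xW).symm.trans (hhx.trans (QuotientGroup.mk_zpow _ _ _).symm))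
  have hα : ¬ (p : ℤ) ∣ α := fun hd => hl'1 ((rep F W h).injective (by
    rw [hhl, map_one, zpow_eq_one_of_dvd (hH.expV _) hd]))
  set x : Ω := ((xW : Q) : Ω) with hx
  set l : Ω := ((lW : Q) : Ω) with hl
  set z : Ω := ((zW : Q) : Ω) with hz
  have hexpΩ : ∀ w : W, ((w : Q) : Ω) ^ p = 1 := fun w => by
    rw [← Subgroup.coe_pow, ← Subgroup.coe_pow, hH.exp]; rfl
  have hcz : ∀ w : W, Commute z ((w : Q) : Ω) := fun w =>
    (congrArg (fun u : W => ((u : Q) : Ω)) (Subgroup.mem_center_iff.1 hzc w)).symm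
  have hclW : ∀ w : W, ((w : Q) : Ω) ∈ Subgroup.closure ({x, l} : Set Ω) := by
    have hgen := sup_zpowers_eq_top hH.cardV hH.expV hl'1 hx'
    set K := Subgroup.closure ({xW, lW} : Set W) with hK
    have hzK : zW ∈ K := by
      have h1 : xW ∈ K := Subgroup.subset_closure (by simp)
      have h2 : lW ∈ K := Subgroup.subset_closure (by simp)
      exact K.mul_mem (K.inv_mem h2) (K.mul_mem (K.mul_mem h1 h2) (K.inv_mem h1))
    have hKtop : K = ⊤ := by
      refine eq_top_iff.2 fun w _ => ?_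
      have hle : Subgroup.zpowers (QuotientGroup.mk lW : W ⧸ Subgroup.center W) ⊔
          Subgroup.zpowers (QuotientGroup.mk xW : W ⧸ Subgroup.center W) ≤ K.map (QuotientGroup.mk' _) :=
        sup_le (Subgroup.zpowers_le.2 ⟨lW, Subgroup.subset_closure (by simp), rfl⟩)
          (Subgroup.zpowers_le.2 ⟨xW, Subgroup.subset_closure (by simp), rfl⟩)
      rw [hgen] at hle
      obtain ⟨k, hk, e⟩ := hle (Subgroup.mem_top (QuotientGroup.mk w))
      rw [QuotientGroup.mk'_apply, QuotientGroup.eq] at e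
      obtain ⟨i, hi⟩ := hzg _ e
      have := K.mul_mem hk (K.zpow_mem hzK i)
      rwa [hi, mul_inv_cancel_left] at this
    intro w
    have h1 : ((w : Q) : Ω) ∈ K.map (Q.subtype.comp W.subtype) := ⟨w, hKtop ▸ Subgroup.mem_top w, rfl⟩
    rw [hK, MonoidHom.map_closure, Set.image_pair] at h1
    exact h1
  refine false_of_plane hp5 hS hF hrk hQn hQc (x := x) (l := l) (z := z) (xW : Q).2 (lW : Q).2 (hexpΩ _) (hexpΩ _)
    (hexpΩ _) ?_ (fun e => hz1 (Subtype.ext (Subtype.ext e))) (hcz xW) (hcz lW) (fun q hq => ?_) (fun a ha w hw => ?_)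
    hgS hgN hgQ (n₁ := n₁) (n₂ := n₂) ?_ ?_ h.2 (α := α) (β := β) (ra := ra) (rb := 0) (rc := rc) hα hβ hβ2 ?_ ?_ ?_
  · rw [hx, hl, hz, hzW]
    simp
  · -- `q` acts on `W` as an element of `W`
    have htriv := hinn ⟨q, hq⟩
    have hqx : (QuotientGroup.mk (MulAut.characteristic W (MulAut.conj (⟨q, hq⟩ : Q)) xW) :
        W ⧸ Subgroup.center W) = QuotientGroup.mk xW := by
      have := DFunLike.congr_fun htriv (QuotientGroup.mk xW); exact this
    have hql : (QuotientGroup.mk (MulAut.characteristic W (MulAut.conj (⟨q, hq⟩ : Q)) lW) :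
        W ⧸ Subgroup.center W) = QuotientGroup.mk lW := by
      have := DFunLike.congr_fun htriv (QuotientGroup.mk lW); exact this
    obtain ⟨i, hi⟩ := hlift _ _ hqx
    obtain ⟨j, hj⟩ := hlift _ _ hql
    change q * x * q⁻¹ = x * z ^ i at hi
    change q * l * q⁻¹ = l * z ^ j at hj
    have hxl : x * l * x⁻¹ = l * z := by rw [hx, hl, hz, hzW]; simp
    have hzq : q * z * q⁻¹ = z := by
      have e : z = ⁅x, l⁆ := by rw [commutatorElement_def, hxl, ← (hcz lW).eq, mul_inv_cancel_right]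
      have h1 : MulAut.conj q z = ⁅MulAut.conj q x, MulAut.conj q l⁆ := by rw [e, map_commutatorElement]
      rw [MulAut.conj_apply, MulAut.conj_apply, MulAut.conj_apply, hi, hj] at h1
      rw [h1]
      conv_rhs => rw [e]
      rw [commutatorElement_def, commutatorElement_def]
      have a1 : Commute (z ^ i) (l * z ^ j) := ((hcz lW).zpow_left i).mul_right (Commute.zpow_zpow_self z i j)
      have a2 : Commute (z ^ j) x := (hcz xW).zpow_left j
      calc x * z ^ i * (l * z ^ j) * (x * z ^ i)⁻¹ * (l * z ^ j)⁻¹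
          = x * (z ^ i * (l * z ^ j) * (z ^ i)⁻¹) * x⁻¹ * (l * z ^ j)⁻¹ := by group
        _ = x * l * (z ^ j * x⁻¹) * (z ^ j)⁻¹ * l⁻¹ := by rw [a1.eq, mul_inv_cancel_right]; group
        _ = _ := by rw [a2.inv_right.eq]; group
    refine ⟨j, -i, ?_⟩
    set u := x ^ j * l ^ (-i) with hu
    -- `u` acts as `q`
    have hux : u⁻¹ * x * u = x * z ^ (-i) := by
      have h1 := conj_zpow_zpow hxl (hcz xW) (hcz lW) 1 i
      rw [zpow_one, one_mul] at h1
      have h2 : l ^ i * x = x * l ^ i * z ^ (-i) := by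
        calc l ^ i * x = (x * l ^ i * x⁻¹) * (z ^ i)⁻¹ * x := by rw [h1]; group
          _ = x * l ^ i * (x⁻¹ * ((z ^ i)⁻¹ * x)) := by group
          _ = _ := by rw [((hcz xW).zpow_left i).inv_left.eq, inv_mul_cancel_left, zpow_neg]
      calc u⁻¹ * x * u = l ^ i * x * l ^ (-i) := by rw [hu]; group
        _ = x * (l ^ i * z ^ (-i)) * l ^ (-i) := by rw [h2]; group
        _ = x * (z ^ (-i) * l ^ i) * l ^ (-i) := by rw [(((hcz lW).zpow_left (-i)).zpow_right i).eq]
        _ = _ := by group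
    have hul : u⁻¹ * l * u = l * z ^ (-j) := by
      have h1 := conj_zpow_zpow hxl (hcz xW) (hcz lW) (-j) 1
      rw [zpow_one, mul_one, zpow_neg, inv_inv] at h1
      calc u⁻¹ * l * u = l ^ i * ((x ^ j)⁻¹ * l * x ^ j) * l ^ (-i) := by rw [hu]; group
        _ = l ^ i * (l * z ^ (-j)) * l ^ (-i) := by rw [h1]
        _ = l ^ i * l * (z ^ (-j) * l ^ (-i)) := by group
        _ = l ^ i * l * (l ^ (-i) * z ^ (-j)) := by rw [(((hcz lW).zpow_left (-j)).zpow_right (-i)).eq]
        _ = _ := by group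
    have hzpow : ∀ n : ℤ, q * z ^ n * q⁻¹ = z ^ n := fun n => by rw [← conj_zpow, hzq]
    constructor
    · have e : (q * u⁻¹) * x * (q * u⁻¹)⁻¹ = x := by
        calc (q * u⁻¹) * x * (q * u⁻¹)⁻¹ = q * (u⁻¹ * x * u) * q⁻¹ := by group
          _ = (q * x * q⁻¹) * (q * z ^ (-i) * q⁻¹) := by rw [hux]; group
          _ = x := by rw [hi, hzpow, mul_assoc, ← zpow_add, add_neg_cancel, zpow_zero, mul_one]
      exact (mul_inv_eq_iff_eq_mul.1 e).symm
    · have e : (q * u⁻¹) * l * (q * u⁻¹)⁻¹ = l := by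
        calc (q * u⁻¹) * l * (q * u⁻¹)⁻¹ = q * (u⁻¹ * l * u) * q⁻¹ := by group
          _ = (q * l * q⁻¹) * (q * z ^ (-j) * q⁻¹) := by rw [hul]; group
          _ = l := by rw [hj, hzpow, mul_assoc, ← zpow_add, add_neg_cancel, zpow_zero, mul_one]
      exact (mul_inv_eq_iff_eq_mul.1 e).symm
  · -- invariance
    obtain ⟨k, hk⟩ : ∃ k : W, ((k : Q) : Ω) = (w : Ω) := by
      have hle : Subgroup.closure ({x, l} : Set Ω) ≤ W.map Q.subtype := (Subgroup.closure_le _).2 (by
        rintro _ (rfl | rfl)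
        exacts [⟨_, xW.2, rfl⟩, ⟨_, lW.2, rfl⟩])
      obtain ⟨k, hk, e⟩ := hle hw
      exact ⟨⟨k, hk⟩, e⟩
    obtain rfl : (k : Q) = w := Subtype.ext hk
    rw [← hval]
    exact hclW _
  · exact hn₁.trans (by rw [hx, hl, hz]; simp)
  · exact hn₂
  · have := hra
    rw [hval] at this
    refine this.trans ?_
    rw [hl, hz]; simp
  · have := hrc
    rw [hval] at this
    refine this.trans ?_
    rw [hx, hz, zpow_zero, mul_one]; simp
  · refine hC.imp_right fun hC c hc hcx hcl => hC c hc fun w => ?_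
    have hle : Subgroup.closure ({x, l} : Set Ω) ≤ Subgroup.centralizer {c} := (Subgroup.closure_le _).2 (by
      rintro _ (rfl | rfl)
      · exact Subgroup.mem_centralizer_singleton_iff.2 hcx.eq
      · exact Subgroup.mem_centralizer_singleton_iff.2 hcl.eq)
    exact Subgroup.mem_centralizer_singleton_iff.1 (hle (hclW w))

end CfsgLib.RankTwoResistant
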