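import Cfsg.Agent.RankTwoResistant.Square
import Cfsg.Agent.S5301

/-!
A `p`-group of rank two, `p ≥ 5`, other than the nonabelian one of order `p³` and exponent `p` is resistant.
-/

set_option autoImplicit false
set_option linter.style.haveILetI false

namespace CfsgLib.RankTwoResistant

open Cfsg Cfsg.FusionSystem CfsgLib.Fusion

variable {p : ℕ} [hp : Fact p.Prime]
variable {Ω : Type*} [Group Ω] {S : Subgroup Ω} [Finite S] {F : Cfsg.FusionSystem S}

theorem eq_of_radical (hp5 : 5 ≤ p) (hS : IsPGroup p S) (hF : F.IsSaturated p)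
    (hrk : ∀ A : Subgroup Ω, A ≤ S → Cfsg.IsElementaryAbelian p A → Nat.card A ≤ p ^ 2)
    (hnotE : ¬ (Nat.card S = p ^ 3 ∧ Monoid.exponent ↥S = p))
    {P : Subgroup Ω} (hn : F.IsFullyNormalized P) (hc : F.IsCentric P) (hr : F.IsRadical p P) : P = S := by
  classical
  have hp2 : p ≠ 2 := by omega
  by_contra hne
  have hlt : P < S := lt_of_le_of_ne hn.1 hne
  have hPS : P ≤ S := hn.1
  haveI := finite_of_le hPS
  haveI := finite_mulAut (S := S) hPS
  have hPp : IsPGroup p P := hS.to_le hPS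
  have hPnt : Nontrivial P := by
    rw [Subgroup.nontrivial_iff_ne_bot]
    rintro rfl
    refine hlt.not_ge fun s hs => hc.2 ⊥ (CfsgLib.Fusion.IsConj.refl bot_le) ⟨hs, ?_⟩
    exact Subgroup.mem_centralizer_iff.2 fun u hu => by rw [Subgroup.mem_bot.1 hu, one_mul, mul_one]
  obtain ⟨W, hWch, hWne, hWexp, hdet⟩ := exists_omega (p := p) hp2 hPp hPnt
  haveI := hWch
  have hexp : ∀ x : W, x ^ p = 1 := fun x => Subtype.ext (hWexp x x.2)
  have hWrk : ∀ A : Subgroup W, IsMulCommutative A → Nat.card A ≤ p ^ 2 := fun A hA => by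
    have h := hrk ((A.map W.subtype).map P.subtype) ((Subgroup.map_subtype_le _).trans hPS) ⟨?_, ?_⟩
    · rwa [Subgroup.card_map_of_injective P.subtype_injective,
        Subgroup.card_map_of_injective W.subtype_injective] at h
    · haveI := hA
      infer_instance
    · rintro _ ⟨_, ⟨x, -, rfl⟩, rfl⟩
      rw [← map_pow, ← map_pow, hexp, map_one, map_one]
  have h3 := card_le_cube hexp hWrk
  have hWp : IsPGroup p W := hPp.to_subgroup W
  obtain ⟨k, hk⟩ := IsPGroup.iff_card.1 hWp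
  rw [hk, Nat.pow_le_pow_iff_right hp.out.one_lt] at h3
  have hk0 : k ≠ 0 := fun e => hWne (Subgroup.eq_bot_of_card_eq W (by rw [hk, e, pow_zero]))
  rcases (show k = 1 ∨ k = 2 ∨ k = 3 by omega) with rfl | rfl | rfl
  · -- a line: every `p`-automorphism fixes it
    rw [pow_one] at hk
    haveI : IsCyclic W := isCyclic_of_prime_card hk
    set ρ : F.autGroup P →* MulAut W := (MulAut.characteristic W).comp (F.autGroup P).subtype with hρ
    have hker : IsPGroup p ρ.ker := isPGroup_of_coprime_eq_one fun a ha => by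
      obtain ⟨⟨a, haA⟩, hk'⟩ := a
      rw [← Subgroup.orderOf_coe, ← Subgroup.orderOf_coe] at ha
      exact Subtype.ext (Subtype.ext (hdet a ha fun w hw => by
        have h1 := congrArg Subtype.val (DFunLike.congr_fun (MonoidHom.mem_ker.1 hk') (⟨w, hw⟩ : W))
        exact h1))
    obtain ⟨b, hb, hbI⟩ := exists_outer hS hc hlt
    have hbA : b ∈ F.autGroup P := autInducedBy_le_autGroup hPS hb
    refine hbI (le_inn hr ρ.ker hker ⟨⟨b, hbA⟩, ?_, rfl⟩)
    haveI : Finite (MulAut W) := Finite.of_injective (fun α : MulAut W => (α : W → W)) DFunLike.coe_injective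
    obtain ⟨n, hn'⟩ : ∃ n, orderOf (ρ ⟨b, hbA⟩) ∣ p ^ n := by
      rw [← range_conjAut (P := P) S] at hb
      obtain ⟨⟨g, hg⟩, rfl⟩ := hb
      obtain ⟨n, hn'⟩ := IsPGroup.iff_orderOf.1 (hS.to_le (show normalizerIn S P ≤ S from inf_le_left)) ⟨g, hg⟩
      refine ⟨n, orderOf_dvd_of_pow_eq_one ?_⟩
      rw [← map_pow]
      have : (⟨conjAut P S ⟨g, hg⟩, hbA⟩ : F.autGroup P) ^ p ^ n = 1 :=
        Subtype.ext (by rw [Subgroup.coe_pow, ← map_pow, ← hn', pow_orderOf_eq_one, map_one]; rfl)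
      rw [this, map_one]
    have h4 : orderOf (ρ ⟨b, hbA⟩) ∣ p - 1 := by
      refine (_root_.orderOf_dvd_natCard _).trans ?_
      rw [IsCyclic.card_mulAut, hk, Nat.totient_prime hp.out]
    have hco : (p - 1).Coprime (p ^ n) := Nat.Coprime.pow_right n
      ((hp.out.coprime_iff_not_dvd.2 fun hd => by
        have := Nat.le_of_dvd (by omega) hd
        omega).symm)
    exact MonoidHom.mem_ker.2 (orderOf_eq_one_iff.1 (Nat.eq_one_of_dvd_coprimes hco h4 hn'))
  · exact false_of_square hp5 hS hF hrk hnotE hn hc hr hlt W hk hexp hdet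
  · have hnc : ¬ IsMulCommutative W := fun hcm => by
      have := hWrk ⊤ (by haveI := hcm; infer_instance)
      rw [Subgroup.card_top, hk, Nat.pow_le_pow_iff_right hp.out.one_lt] at this
      omega
    have hH : Heis p W := heis hexp hk hnc
    obtain ⟨hI1, -, g, hgS, hgN, hb, l', x', hgP, hl', hx', htl, htx, -, -, -, hdiag⟩ :=
      plane (rep F W) hS hF hn hc hr hlt hH.cardV hH.expV (rep_ker hS hPS W hH hdet)
    obtain ⟨m, hm⟩ : ∃ m : ℤ, (p : ℤ) ∣ 2 * m - 1 := exists_inv_mod (a := (2 : ℤ)) fun hd => by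
      have : p ∣ 2 := by exact_mod_cast hd
      exact hp2 ((Nat.prime_dvd_prime_iff_eq hp.out Nat.prime_two).1 this)
    obtain ⟨h, hhl, hhx, -⟩ := hdiag 2 m hm
    refine false_of_frame hp5 hS hF hrk hn (hc.2 P (CfsgLib.Fusion.IsConj.refl hPS)) W hH (fun q => ?_)
      hgS hgN hgP hb hl' hx' htl htx (h := h) hhl hhx ?_ ?_ (.inl ?_)
    · exact hI1 ⟨MulAut.conj q, inn_le_autGroup hPS ⟨q, rfl⟩⟩ ⟨q, rfl⟩
    · intro hd
      have h1 : (p : ℤ) ∣ 1 := by have := dvd_sub (hd.mul_left 2) hm; rwa [sub_sub_cancel] at this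
      exact hp.out.not_dvd_one (by exact_mod_cast h1)
    · intro hd
      obtain ⟨u1, hu1⟩ := hd
      obtain ⟨u2, hu2⟩ := hm
      have h3 : (p : ℤ) ∣ 3 := ⟨(2 * m + 1) * u2 - 4 * u1, by linear_combination (2 * m + 1) * hu2 - 4 * hu1⟩
      have : (p : ℤ) ≤ 3 := Int.le_of_dvd (by norm_num) h3
      omega
    · intro hd
      obtain ⟨u1, hu1⟩ := hd
      obtain ⟨u2, hu2⟩ := hm
      have h3 : (p : ℤ) ∣ 3 := ⟨2 * u1 + u2, by linear_combination 2 * hu1 + hu2⟩
      have : (p : ℤ) ≤ 3 := Int.le_of_dvd (by norm_num) h3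
      omega

theorem isNormal (hp5 : 5 ≤ p) (hS : IsPGroup p S) (hF : F.IsSaturated p)
    (hrk : ∀ A : Subgroup Ω, A ≤ S → Cfsg.IsElementaryAbelian p A → Nat.card A ≤ p ^ 2)
    (hnotE : ¬ (Nat.card S = p ^ 3 ∧ Monoid.exponent ↥S = p)) : F.IsNormal S :=
  Cfsg.Agent.S5301.result p hS F hF fun P hn hc hr => by
    obtain rfl := eq_of_radical hp5 hS hF hrk hnotE hn hc hr
    haveI := finite_mulAut (S := P) (le_refl P)
    obtain ⟨-, R, hR⟩ := fullyAutomized_of_fullyNormalized hS hF hn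
    exact ⟨R, by rw [hR, autInducedBy_self]; exact inn_subgroupOf_normal _⟩

end CfsgLib.RankTwoResistant
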