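import Cfsg.Agent.RankTwoResistant.Frame
import Cfsg.Agent.Fusion.Centric

/-!
A proper radical subgroup whose detecting subgroup is a plane: it is that plane, and then the next
normaliser leads to a Heisenberg frame.
-/

set_option autoImplicit false
set_option linter.style.haveILetI false
set_option maxHeartbeats 1600000

open scoped commutatorElement

namespace CfsgLib.RankTwoResistant

open Cfsg Cfsg.FusionSystem CfsgLib.Fusion

variable {p : ℕ} [hp : Fact p.Prime]
variable {Ω : Type*} [Group Ω] {S : Subgroup Ω} [Finite S] {F : Cfsg.FusionSystem S}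

lemma rep_ker (hS : IsPGroup p S) {P : Subgroup Ω} (hPS : P ≤ S) (W : Subgroup P) [W.Characteristic]
    (hH : Heis p W) (hdet : ∀ α : MulAut P, (orderOf α).Coprime p → (∀ x ∈ W, α x = x) → α = 1) :
    IsPGroup p (rep F W).ker := by
  haveI := finite_of_le hPS
  haveI := finite_mulAut (S := S) hPS
  haveI := hH.fin
  refine isPGroup_of_coprime_eq_one fun a ha => ?_
  obtain ⟨⟨a, haA⟩, hker⟩ := a
  rw [← Subgroup.orderOf_coe, ← Subgroup.orderOf_coe] at ha
  refine Subtype.ext (Subtype.ext (hdet a ha fun w hw => ?_))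
  set σ := MulAut.characteristic W a with hσ
  have hco : (orderOf σ).Coprime p := ha.coprime_dvd_left (orderOf_map_dvd _ a)
  have hW : IsPGroup p W := fun u => ⟨1, by rw [pow_one]; exact hH.exp u⟩
  have hσ' : ∀ u : W, (QuotientGroup.mk (σ u) : W ⧸ Subgroup.center W) = QuotientGroup.mk u := fun u =>
    DFunLike.congr_fun (MonoidHom.mem_ker.1 hker) (QuotientGroup.mk u)
  have hfix : ∀ c ∈ Subgroup.center W, σ c = c := by
    obtain ⟨l, hl⟩ : ∃ l : W, (QuotientGroup.mk l : W ⧸ Subgroup.center W) ≠ 1 := by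
      by_contra hh
      push Not at hh
      have : Nat.card (W ⧸ Subgroup.center W) = 1 := Nat.card_eq_one_iff_unique.2
        ⟨⟨fun u v => by
          obtain ⟨u, rfl⟩ := QuotientGroup.mk_surjective u
          obtain ⟨v, rfl⟩ := QuotientGroup.mk_surjective v
          rw [hh, hh]⟩, ⟨1⟩⟩
      rw [hH.cardV] at this
      nlinarith [hp.out.two_le]
    obtain ⟨x, hx⟩ : ∃ x : W, (QuotientGroup.mk x : W ⧸ Subgroup.center W) ∉
        Subgroup.zpowers (QuotientGroup.mk l) := by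
      by_contra hh
      push Not at hh
      have h1 : Subgroup.zpowers (QuotientGroup.mk l : W ⧸ Subgroup.center W) = ⊤ := eq_top_iff.2 fun u _ => by
        obtain ⟨u, rfl⟩ := QuotientGroup.mk_surjective u
        exact hh u
      have h2 := Nat.card_zpowers (QuotientGroup.mk l : W ⧸ Subgroup.center W)
      rw [h1, Subgroup.card_top, hH.cardV, orderOf_eq_prime (hH.expV _) hl] at h2
      nlinarith [hp.out.two_le]
    obtain ⟨-, -, hgen⟩ := hH.basis hl hx
    intro c hc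
    obtain ⟨i, rfl⟩ := hgen c hc
    obtain ⟨c1, hc1, e1⟩ : ∃ c1 ∈ Subgroup.center W, σ x = x * c1 :=
      ⟨_, QuotientGroup.eq.1 (hσ' x).symm, (mul_inv_cancel_left _ _).symm⟩
    obtain ⟨c2, hc2, e2⟩ : ∃ c2 ∈ Subgroup.center W, σ l = l * c2 :=
      ⟨_, QuotientGroup.eq.1 (hσ' l).symm, (mul_inv_cancel_left _ _).symm⟩
    rw [map_zpow]
    congr 1
    rw [map_mul, map_mul, map_mul, map_inv, map_inv, e1, e2]
    have a1 : Commute c1 (l * c2) := (Subgroup.mem_center_iff.1 hc1 _).symm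
    have a2 : Commute c2 (x⁻¹) := (Subgroup.mem_center_iff.1 hc2 _).symm
    calc (l * c2)⁻¹ * (x * c1 * (l * c2) * (x * c1)⁻¹)
        = (l * c2)⁻¹ * (x * (c1 * (l * c2) * c1⁻¹) * x⁻¹) := by group
      _ = c2⁻¹ * (l⁻¹ * (x * l * (c2 * x⁻¹))) := by rw [a1.eq, mul_inv_cancel_right]; group
      _ = c2⁻¹ * (l⁻¹ * (x * l * x⁻¹)) * c2 := by rw [a2.eq]; group
      _ = _ := by
        rw [mul_assoc, Subgroup.mem_center_iff.1 hc2, inv_mul_cancel_left]
  exact congrArg Subtype.val (CfsgLib.PLocalBasics.fixed_of_step_fixed hW hco (hfix _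
    (QuotientGroup.eq.1 (hσ' ⟨w, hw⟩).symm)) : σ ⟨w, hw⟩ = ⟨w, hw⟩)

theorem false_of_square (hp5 : 5 ≤ p) (hS : IsPGroup p S) (hF : F.IsSaturated p)
    (hrk : ∀ A : Subgroup Ω, A ≤ S → Cfsg.IsElementaryAbelian p A → Nat.card A ≤ p ^ 2)
    (hnotE : ¬ (Nat.card S = p ^ 3 ∧ Monoid.exponent ↥S = p))
    {P : Subgroup Ω} (hn : F.IsFullyNormalized P) (hc : F.IsCentric P) (hr : F.IsRadical p P) (hlt : P < S)
    (W : Subgroup P) [W.Characteristic] (hcard : Nat.card W = p ^ 2) (hexp : ∀ x : W, x ^ p = 1)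
    (hdet : ∀ α : MulAut P, (orderOf α).Coprime p → (∀ x ∈ W, α x = x) → α = 1) : False := by
  classical
  have hp2 : p ≠ 2 := by omega
  have hPS : P ≤ S := hn.1
  haveI := finite_of_le hPS
  haveI := finite_mulAut (S := S) hPS
  haveI : Finite W := inferInstance
  have hWc : ∀ a b : W, a * b = b * a := fun a b => (IsPGroup.commutative_of_card_eq_prime_sq hcard) a b
  set ρ : F.autGroup P →* MulAut W := (MulAut.characteristic W).comp (F.autGroup P).subtype with hρ
  have hker : IsPGroup p ρ.ker := isPGroup_of_coprime_eq_one fun a ha => by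
    obtain ⟨⟨a, haA⟩, hk⟩ := a
    rw [← Subgroup.orderOf_coe, ← Subgroup.orderOf_coe] at ha
    exact Subtype.ext (Subtype.ext (hdet a ha fun w hw => by
      have h1 := congrArg Subtype.val (DFunLike.congr_fun (MonoidHom.mem_ker.1 hk) (⟨w, hw⟩ : W))
      exact h1))
  obtain ⟨hI1, hI2, g, hgS, hgN, hb, zW, zW', hgP, hz1, hz', htz, htz', htp, hall, ⟨a₀, ha₀⟩, hdiag⟩ :=
    plane ρ hS hF hn hc hr hlt hcard hexp hker
  set b : F.autGroup P := ⟨_, hb⟩ with hbdef
  have hρv : ∀ (a : F.autGroup P) (w : W), ((ρ a w : W) : P) = (a : MulAut P) (w : P) := fun a w => rfl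
  have hWcen : ∀ w : W, (w : P) ∈ Subgroup.center P := fun w => Subgroup.mem_center_iff.2 fun v => by
    have hA : MulAut.conj v ∈ F.autGroup P := inn_le_autGroup hPS ⟨v, rfl⟩
    have := congrArg Subtype.val (DFunLike.congr_fun (hI1 ⟨_, hA⟩ ⟨v, rfl⟩) w)
    rw [hρv] at this
    exact mul_inv_eq_iff_eq_mul.1 this
  -- every element of order `p` is in `W`
  have homega : ∀ v : P, v ^ p = 1 → v ∈ W := by
    intro v hv
    set B := (W ⊔ Subgroup.zpowers v).map P.subtype with hB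
    have hWcen' : W ≤ Subgroup.center P := fun w hw => hWcen ⟨w, hw⟩
    have hBc : IsMulCommutative ↥(W ⊔ Subgroup.zpowers v) := by
      rw [← Subgroup.le_centralizer_iff_isMulCommutative]
      refine sup_le (hWcen'.trans (Subgroup.center_le_centralizer _)) (Subgroup.zpowers_le.2 ?_)
      rw [Subgroup.mem_centralizer_iff]
      intro u hu
      obtain ⟨w, hw, t, ht, rfl⟩ := Subgroup.mem_sup_of_normal_left.1 hu
      obtain ⟨i, rfl⟩ := Subgroup.mem_zpowers_iff.1 ht
      exact ((show Commute w v from (Subgroup.mem_center_iff.1 (hWcen' hw) v).symm).mul_left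
        (Commute.zpow_self v i)).eq
    have hBexp : ∀ u ∈ W ⊔ Subgroup.zpowers v, u ^ p = 1 := by
      intro u hu
      obtain ⟨w, hw, t, ht, rfl⟩ := Subgroup.mem_sup_of_normal_left.1 hu
      obtain ⟨i, rfl⟩ := Subgroup.mem_zpowers_iff.1 ht
      rw [(show Commute w (v ^ i) from (Subgroup.mem_center_iff.1 (hWcen' hw) _).symm).mul_pow,
        (show w ^ p = 1 from congrArg Subtype.val (hexp ⟨w, hw⟩)), one_mul, ← zpow_natCast, ← zpow_mul,
        zpow_eq_one_of_dvd hv (dvd_mul_left _ _)]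
    have h2 := hrk B ((Subgroup.map_subtype_le _).trans hPS) ⟨⟨⟨fun s t => by
      obtain ⟨_, s', hs', rfl⟩ := s
      obtain ⟨_, t', ht', rfl⟩ := t
      haveI := hBc
      refine Subtype.ext ?_
      show P.subtype s' * P.subtype t' = P.subtype t' * P.subtype s'
      rw [← map_mul, ← map_mul, Subgroup.mul_comm_of_mem_isMulCommutative (H := W ⊔ Subgroup.zpowers v) hs' ht']⟩⟩, by
      rintro _ ⟨u, hu, rfl⟩
      rw [← map_pow, hBexp u hu, map_one]⟩
    rw [hB, Subgroup.card_map_of_injective P.subtype_injective] at h2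
    have : W = W ⊔ Subgroup.zpowers v := Subgroup.eq_of_le_of_card_ge le_sup_left (h2.trans hcard.ge)
    exact this.ge (Subgroup.mem_sup_right (Subgroup.mem_zpowers v))
  have hgenW := sup_zpowers_eq_top hcard hexp hz1 hz'
  haveI : (Subgroup.zpowers zW).Normal := ⟨fun u hu v => by rwa [hWc v u, mul_inv_cancel_right]⟩
  have hWext : ∀ σ τ : MulAut W, σ zW = τ zW → σ zW' = τ zW' → σ = τ := fun σ τ h1 h2 => MulEquiv.ext fun v => by
    have hle : (⊤ : Subgroup W) ≤ σ.toMonoidHom.eqLocus τ.toMonoidHom := by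
      rw [← hgenW]
      exact sup_le (Subgroup.zpowers_le.2 h1) (Subgroup.zpowers_le.2 h2)
    exact hle (Subgroup.mem_top v)
  -- an involution inverting `W`
  obtain ⟨h0, h0z, h0z', -⟩ := hdiag (-1) (-1) (by norm_num)
  have hinv : ∀ w : W, ρ h0 w = w⁻¹ := by
    let inv : MulAut W := { toFun := fun w => w⁻¹, invFun := fun w => w⁻¹, left_inv := inv_inv, right_inv := inv_inv,
                            map_mul' := fun u v => by rw [mul_inv_rev, hWc] }
    have e : ρ h0 = inv := hWext _ _ (by rw [h0z, zpow_neg_one]; rfl) (by rw [h0z', zpow_neg_one]; rfl)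
    intro w; rw [e]; rfl
  obtain ⟨s, hs⟩ : ∃ s : ℕ, (h0 * h0) ^ p ^ s = 1 := by
    have hk : h0 * h0 ∈ ρ.ker := MonoidHom.mem_ker.2 (MulEquiv.ext fun w => by
      rw [map_mul, MulAut.mul_apply, hinv, hinv, inv_inv]; rfl)
    obtain ⟨s, hs⟩ := hker ⟨_, hk⟩
    exact ⟨s, congrArg Subtype.val hs⟩
  set τ := h0 ^ p ^ s with hτ
  have hτ2 : Function.Involutive (τ : MulAut P) := fun v => by
    rw [← MulAut.mul_apply, ← Subgroup.coe_mul, hτ, ← (Commute.refl h0).mul_pow, hs]; rfl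
  have hτW : ∀ w : W, (τ : MulAut P) (w : P) = ((w : P))⁻¹ := by
    have hit : ∀ (j : ℕ) (w : W), ρ (h0 ^ (2 * j + 1)) w = w⁻¹ := by
      intro j
      induction j with
      | zero => simpa using hinv
      | succ j ih =>
        intro w
        rw [show 2 * (j + 1) + 1 = (2 * j + 1) + 1 + 1 by ring, pow_succ, pow_succ, map_mul, map_mul,
          MulAut.mul_apply, MulAut.mul_apply, hinv, hinv, inv_inv, ih]
    obtain ⟨j, hj⟩ : Odd (p ^ s) := (hp.out.odd_of_ne_two hp2).pow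
    intro w
    rw [← hρv, hτ, hj, hit]
    rfl
  have hfpf : MonoidHom.FixedPointFree (τ : MulAut P) := fun v hv => by
    by_contra hv1
    obtain ⟨k, hk⟩ := IsPGroup.iff_orderOf.1 (hS.to_le hPS) v
    have hk0 : k ≠ 0 := fun e => hv1 (orderOf_eq_one_iff.1 (by rw [hk, e, pow_zero]))
    set u := v ^ p ^ (k - 1) with hu
    have huo : orderOf u = p := by
      rw [hu, orderOf_pow_of_dvd (pow_ne_zero _ hp.out.ne_zero) (hk ▸ pow_dvd_pow p (Nat.sub_le k 1)), hk,
        Nat.pow_div (Nat.sub_le k 1) hp.out.pos, show k - (k - 1) = 1 by omega, pow_one]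
    have huW : u ∈ W := homega u (huo ▸ pow_orderOf_eq_one u)
    have h1 : (τ : MulAut P) u = u := by rw [hu, map_pow, hv]
    rw [hτW ⟨u, huW⟩, inv_eq_iff_mul_eq_one, ← pow_two, ← orderOf_dvd_iff_pow_eq_one, huo] at h1
    exact hp2 ((Nat.prime_dvd_prime_iff_eq hp.out Nat.prime_two).1 h1)
  have hab : ∀ u v : P, u * v = v * u := fun u v => (hfpf.commute_all_of_involutive hτ2 u v).eq
  have hρinj : ∀ a : F.autGroup P, ρ a = 1 → a = 1 := fun a ha => by
    obtain ⟨v, hv⟩ := hI2 a ha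
    refine Subtype.ext ?_
    rw [← hv]
    exact MulEquiv.ext fun u => by rw [MulAut.conj_apply, hab v u, mul_inv_cancel_right]; rfl
  have hbp : b ^ p = 1 := hρinj _ (by rw [map_pow]; exact htp)
  -- `P = W`
  have hPW : W = ⊤ := by
    by_contra hne
    obtain ⟨v, hv⟩ : ∃ v, v ∉ W := by
      by_contra hh
      push Not at hh
      exact hne ((Subgroup.eq_top_iff' W).2 hh)
    let pw : P →* P := { toFun := fun u => u ^ p, map_one' := one_pow p,
                         map_mul' := fun u w => (show Commute u w from hab u w).mul_pow p }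
    set R := pw.range.subgroupOf W with hR
    have hRinv : ∀ (a : F.autGroup P) (w : W), w ∈ R → ρ a w ∈ R := fun a w hw => by
      obtain ⟨u, hu⟩ := Subgroup.mem_subgroupOf.1 hw
      refine Subgroup.mem_subgroupOf.2 ⟨(a : MulAut P) u, ?_⟩
      rw [hρv, ← hu]
      exact (map_pow _ u p).symm
    obtain ⟨r, hrR, hr1⟩ : ∃ r ∈ R, r ≠ 1 := by
      obtain ⟨k, hk⟩ := IsPGroup.iff_orderOf.1 (hS.to_le hPS) v
      have hk2 : 2 ≤ k := by
        by_contra hlt'
        exact hv (homega v (orderOf_dvd_iff_pow_eq_one.1 (hk ▸ (pow_dvd_pow p (show k ≤ 1 by omega)).trans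
          (pow_one p).dvd)))
      have huo : orderOf (v ^ p ^ (k - 1)) = p := by
        rw [orderOf_pow_of_dvd (pow_ne_zero _ hp.out.ne_zero) (hk ▸ pow_dvd_pow p (Nat.sub_le k 1)), hk,
          Nat.pow_div (Nat.sub_le k 1) hp.out.pos, show k - (k - 1) = 1 by omega, pow_one]
      refine ⟨⟨_, homega _ (huo ▸ pow_orderOf_eq_one _)⟩, ⟨v ^ p ^ (k - 2), ?_⟩, fun e => ?_⟩
      · show (v ^ p ^ (k - 2)) ^ p = v ^ p ^ (k - 1)
        rw [← pow_mul, ← pow_succ, show k - 2 + 1 = k - 1 by omega]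
      · have := congrArg Subtype.val e
        simp only [OneMemClass.coe_one] at this
        rw [this, orderOf_one] at huo
        exact hp.out.ne_one huo.symm
    have hzR : zW ∈ R := by
      have hmem := Subgroup.mem_top r
      rw [← hgenW, Subgroup.mem_sup_of_normal_left] at hmem
      obtain ⟨u1, hu1, u2, hu2, hru⟩ := hmem
      obtain ⟨i, rfl⟩ := Subgroup.mem_zpowers_iff.1 hu1
      obtain ⟨j, rfl⟩ := Subgroup.mem_zpowers_iff.1 hu2
      by_cases hj : (p : ℤ) ∣ j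
      · rw [zpow_eq_one_of_dvd (hexp _) hj, mul_one] at hru
        obtain ⟨i', hi'⟩ := exists_inv_mod (p := p) (a := i) fun hd => hr1 (by
          rw [← hru, zpow_eq_one_of_dvd (hexp _) hd])
        rw [show zW = r ^ i' by
          rw [← hru, ← zpow_mul]; exact (zpow_one zW).symm.trans (zpow_congr (hexp _) (dvd_sub_comm.1 hi'))]
        exact R.zpow_mem hrR _
      · have h1 := R.mul_mem (R.inv_mem hrR) (hRinv b r hrR)
        rw [← hru, map_mul, map_zpow, map_zpow, htz, htz', Commute.mul_zpow (hWc zW' zW), mul_inv_rev] at h1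
        rw [show (zW' ^ j)⁻¹ * (zW ^ i)⁻¹ * (zW ^ i * (zW' ^ j * zW ^ j)) = zW ^ j by group] at h1
        obtain ⟨j', hj'⟩ := exists_inv_mod hj
        rw [show zW = (zW ^ j) ^ j' by
          rw [← zpow_mul]; exact (zpow_one zW).symm.trans (zpow_congr (hexp _) (dvd_sub_comm.1 hj'))]
        exact R.zpow_mem h1 _
    have hRtop : R = ⊤ := eq_top_iff.2 (by
      rw [← sup_zpowers_eq_top hcard hexp hz1 ha₀]
      exact sup_le (Subgroup.zpowers_le.2 hzR) (Subgroup.zpowers_le.2 (hRinv a₀ zW hzR)))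
    obtain ⟨u, hu⟩ := Subgroup.mem_subgroupOf.1 (hRtop.ge (Subgroup.mem_top zW'))
    change u ^ p = (zW' : P) at hu
    set β : MulAut P := (b : MulAut P)
    set d : P := u⁻¹ * β u with hd
    have hd0 : β u = u * d := by rw [hd, mul_inv_cancel_left]
    have hdp : d ^ p = (zW : P) := by
      rw [hd, (show Commute u⁻¹ (β u) from hab _ _).mul_pow, inv_pow, ← map_pow, hu, ← hρv, htz',
        Subgroup.coe_mul, inv_mul_cancel_left]
    set w1 : P := d⁻¹ * β d with hw1
    have hd1 : β d = d * w1 := by rw [hw1, mul_inv_cancel_left]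
    have hw1W : w1 ∈ W := homega _ (by
      rw [hw1, (show Commute d⁻¹ (β d) from hab _ _).mul_pow, inv_pow, ← map_pow, hdp, ← hρv, htz, inv_mul_cancel])
    set x1 : P := w1⁻¹ * β w1 with hx1
    have hw2 : β w1 = w1 * x1 := by rw [hx1, mul_inv_cancel_left]
    obtain ⟨i, hi⟩ : ∃ i : ℤ, x1 = (zW : P) ^ i := by
      have hmem := Subgroup.mem_top (⟨w1, hw1W⟩ : W)
      rw [← hgenW, Subgroup.mem_sup_of_normal_left] at hmem
      obtain ⟨u1, hu1, u2, hu2, hru⟩ := hmem
      obtain ⟨i, rfl⟩ := Subgroup.mem_zpowers_iff.1 hu1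
      obtain ⟨j, rfl⟩ := Subgroup.mem_zpowers_iff.1 hu2
      refine ⟨j, ?_⟩
      have e : ρ b ⟨w1, hw1W⟩ = ⟨w1, hw1W⟩ * zW ^ j := by
        rw [← hru, map_mul, map_zpow, map_zpow, htz, htz', Commute.mul_zpow (hWc zW' zW), mul_assoc]
      have e' : β w1 = w1 * (zW : P) ^ j := by
        have := congrArg Subtype.val e
        simp only [Subgroup.coe_mul, SubgroupClass.coe_zpow] at this
        exact this
      rw [hx1, e', inv_mul_cancel_left]
    have hx1fix : β x1 = x1 := by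
      rw [hi, map_zpow, ← hρv, htz]
    have hiter : ∀ n : ℕ, (β ^ n) u = u * d ^ n * w1 ^ n.choose 2 * x1 ^ n.choose 3 := by
      intro n
      induction n with
      | zero => simp
      | succ n ih =>
        rw [pow_succ', MulAut.mul_apply, ih, map_mul, map_mul, map_mul, map_pow, map_pow, map_pow, hd0, hd1, hw2,
          hx1fix, (show Commute d w1 from hab _ _).mul_pow, (show Commute w1 x1 from hab _ _).mul_pow,
          Nat.choose_succ_succ' n 1, Nat.choose_succ_succ' n 2, Nat.choose_one_right, pow_add, pow_add, pow_succ']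
        have hlc : ∀ a b c : P, a * (b * c) = b * (a * c) := fun a b c => by
          rw [← mul_assoc, hab a b, mul_assoc]
        simp only [mul_assoc, pow_zero, one_mul, ← pow_add, Nat.reduceAdd]
        rw [← mul_assoc d (d ^ n), ← mul_assoc (d ^ n) d, hab d (d ^ n), ← mul_assoc (w1 ^ n), ← pow_add]
    have h3 : p ∣ p.choose 3 := hp.out.dvd_choose_self (by norm_num) (by omega)
    have h2 : p ∣ p.choose 2 := hp.out.dvd_choose_self (by norm_num) (by omega)
    have hw1p : w1 ^ p = 1 := congrArg Subtype.val (hexp ⟨w1, hw1W⟩)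
    have hx1p : x1 ^ p = 1 := by
      rw [hx1, (show Commute w1⁻¹ (β w1) from hab _ _).mul_pow, inv_pow, ← map_pow, hw1p, map_one, inv_one, one_mul]
    have := hiter p
    rw [← Subgroup.coe_pow, hbp] at this
    obtain ⟨c2, hc2⟩ := h2
    obtain ⟨c3, hc3⟩ := h3
    rw [hc2, hc3, pow_mul, pow_mul, hw1p, hx1p, one_pow, one_pow, mul_one, mul_one, hdp] at this
    have e : (zW : P) = 1 := by
      simpa using this
    exact hz1 (Subtype.ext e)
  -- stage two: `P` is a plane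
  subst hPW
  set z : Ω := ((zW : P) : Ω) with hzdef
  set a : Ω := ((zW' : P) : Ω) with hadef
  have hPexp : ∀ u ∈ P, u ^ p = 1 := fun u hu =>
    congrArg (fun w : (⊤ : Subgroup P) => ((w : P) : Ω)) (hexp ⟨⟨u, hu⟩, Subgroup.mem_top _⟩)
  have hPgen : ∀ u ∈ P, ∃ i j : ℤ, u = a ^ i * z ^ j := fun u hu => by
    have hmem := Subgroup.mem_top (⟨⟨u, hu⟩, Subgroup.mem_top _⟩ : (⊤ : Subgroup P))
    rw [← hgenW, Subgroup.mem_sup_of_normal_left] at hmem
    obtain ⟨u1, hu1, u2, hu2, hru⟩ := hmem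
    obtain ⟨i, rfl⟩ := Subgroup.mem_zpowers_iff.1 hu1
    obtain ⟨j, rfl⟩ := Subgroup.mem_zpowers_iff.1 hu2
    refine ⟨j, i, ?_⟩
    have := congrArg (fun w : (⊤ : Subgroup P) => ((w : P) : Ω)) hru
    simp only [Subgroup.coe_mul, SubgroupClass.coe_zpow] at this
    rw [← hzdef, ← hadef] at this
    have haz : Commute z a := congrArg (fun w : (⊤ : Subgroup P) => ((w : P) : Ω)) (hWc zW zW')
    rw [← (haz.zpow_zpow i j).eq]
    exact this.symm
  have hgz : g * z * g⁻¹ = z := congrArg (fun w : (⊤ : Subgroup P) => ((w : P) : Ω)) htz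
  have hga : g * a * g⁻¹ = a * z := congrArg (fun w : (⊤ : Subgroup P) => ((w : P) : Ω)) htz'
  have haz : Commute a z := (congrArg (fun w : (⊤ : Subgroup P) => ((w : P) : Ω)) (hWc zW' zW) :)
  have hzp : z ^ p = 1 := hPexp z (zW : P).2
  have hap : a ^ p = 1 := hPexp a (zW' : P).2
  have cgz : Commute g z := (mul_inv_eq_iff_eq_mul.1 hgz :)
  have hconjP : ∀ w ∈ P, ∃ n : ℤ, g * w * g⁻¹ = w * z ^ n := fun w hw => by
    obtain ⟨i, j, rfl⟩ := hPgen w hw
    refine ⟨i, ?_⟩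
    calc g * (a ^ i * z ^ j) * g⁻¹ = (g * a * g⁻¹) ^ i * (g * z * g⁻¹) ^ j := by rw [conj_zpow, conj_zpow]; group
      _ = a ^ i * (z ^ i * z ^ j) := by rw [hga, hgz, haz.mul_zpow, mul_assoc]
      _ = _ := by rw [(Commute.zpow_zpow_self z i j).eq, mul_assoc]
  obtain ⟨m, hm⟩ : ∃ m : ℤ, (p : ℤ) ∣ 2 * m - 1 := exists_inv_mod (a := (2 : ℤ)) fun hd => by
    have : p ∣ 2 := by exact_mod_cast hd
    exact hp2 ((Nat.prime_dvd_prime_iff_eq hp.out Nat.prime_two).1 this)
  obtain ⟨h, hhz, hha, hhb⟩ := hdiag 2 m hm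
  have hhb' : h * b * h⁻¹ = b ^ ((2 : ℤ) * 2) := by
    rw [← mul_inv_eq_one]
    exact hρinj _ (by rw [map_mul, map_inv, hhb, map_zpow, mul_inv_cancel])
  set φ₀ : P →* Ω := P.subtype.comp ((h : MulAut P) : P ≃* P).toMonoidHom with hφ₀
  have hφ₀mem : φ₀ ∈ F.Hom P := (mem_autGroup hPS).1 h.2
  have hr0 : φ₀.range = P :=
    CfsgLib.MetaResistant.subgroupOf_range_top (F.injective_of_mem hφ₀mem) hPS fun y => ((h : MulAut P) y).2
  have hφz : ∀ hz : z ∈ P, φ₀ ⟨z, hz⟩ = z ^ (2 : ℤ) := fun hz => by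
    have := congrArg (fun w : (⊤ : Subgroup P) => ((w : P) : Ω)) hhz
    simp only [SubgroupClass.coe_zpow] at this
    exact this
  have hφa : ∀ hz : a ∈ P, φ₀ ⟨a, hz⟩ = a ^ m := fun hz => by
    have := congrArg (fun w : (⊤ : Subgroup P) => ((w : P) : Ω)) hha
    simp only [SubgroupClass.coe_zpow] at this
    exact this
  -- conjugations of `P` by its normaliser
  set N := normalizerIn S P with hNdef
  have hgN' : g ∈ N := ⟨hgS, hgN⟩
  have hPN : P ≤ N := le_inf hPS Subgroup.le_normalizer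
  have hNgen : ∀ s ∈ N, ∃ n : ℤ, ∃ w ∈ P, s = w * g ^ n := fun s hs => by
    have hsA : conjAut P S ⟨s, hs⟩ ∈ F.autGroup P :=
      autInducedBy_le_autGroup hPS (range_conjAut (P := P) S ▸ ⟨_, rfl⟩)
    obtain ⟨n, hn'⟩ := Subgroup.mem_zpowers_iff.1 (hall s hs hsA)
    have e : (⟨_, hsA⟩ : F.autGroup P) = b ^ n := by
      rw [← mul_inv_eq_one]
      exact hρinj _ (by rw [map_mul, map_inv, map_zpow, hn', mul_inv_cancel])
    have e' : conjAut P S ⟨s, hs⟩ = conjAut P S (⟨g, hgS, hgN⟩ ^ n) := by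
      rw [map_zpow]
      have := congrArg Subtype.val e
      simpa [hbdef] using this
    refine ⟨n, s * (g ^ n)⁻¹, hc.2 P (CfsgLib.Fusion.IsConj.refl hPS) ⟨S.mul_mem hs.1 (S.inv_mem (S.zpow_mem hgS n)),
      Subgroup.mem_centralizer_iff.2 fun w hw => ?_⟩, (inv_mul_cancel_right s _).symm⟩
    have hgn : g ^ n ∈ Subgroup.normalizer (P : Set Ω) := Subgroup.zpow_mem _ hgN n
    have hw' : (g ^ n)⁻¹ * w * g ^ n ∈ P := conj_inv_mem_of_normalizer hgn hw
    have h1 := congrArg (fun f : MulAut P => ((f ⟨_, hw'⟩ : P) : Ω)) e'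
    simp only [conjAut_apply, SubgroupClass.coe_zpow] at h1
    rw [show g ^ n * ((g ^ n)⁻¹ * w * g ^ n) * (g ^ n)⁻¹ = w by group] at h1
    calc w * (s * (g ^ n)⁻¹) = s * ((g ^ n)⁻¹ * w * g ^ n) * s⁻¹ * (s * (g ^ n)⁻¹) := by rw [h1]
      _ = _ := by group
  -- `g ^ p = 1`
  have hg4 : g ^ (4 : ℤ) ∈ N := N.zpow_mem hgN' 4
  have hext : N ≤ extender S P φ₀ := fun s hs => by
    obtain ⟨n, w, hw, rfl⟩ := hNgen s hs
    refine Subgroup.mul_mem _ (mem_extender.2 ⟨hPS hw, Subgroup.le_normalizer hw, φ₀ ⟨w, hw⟩,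
      val_mem hφ₀mem _, fun u hu => by
        rw [← map_inv, ← map_mul, ← map_mul]
        exact congrArg φ₀ (Subtype.ext rfl)⟩) (Subgroup.zpow_mem _ ?_ n)
    refine mem_extender.2 ⟨hgS, hgN, g ^ (4 : ℤ), S.zpow_mem hgS _, fun u hu => ?_⟩
    have h1 := congrArg (fun f : F.autGroup P => (((f : MulAut P) ((h : MulAut P) u) : P) : Ω)) hhb'
    simp only [Subgroup.coe_mul, InvMemClass.coe_inv, MulAut.mul_apply, MulAut.inv_apply_self,
      SubgroupClass.coe_zpow, hbdef] at h1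
    rw [← map_zpow] at h1
    simp only [conjAut_apply, SubgroupClass.coe_zpow] at h1
    exact h1
  obtain ⟨χ, hχ, hag⟩ := (receptive_of_fullyNormalized hS hF hn).2 P φ₀ hφ₀mem hr0
  set ψ := χ.comp (Subgroup.inclusion hext) with hψdef
  have hψmem : ψ ∈ F.Hom N := restrict hχ hext
  have hψP : ∀ (w : Ω) (hw : w ∈ P), ψ ⟨w, hPN hw⟩ = φ₀ ⟨w, hw⟩ := fun w hw => hag w hw _
  have hψN : ∀ s : N, ψ s ∈ N := fun s => ⟨val_mem hψmem s, Subgroup.mem_normalizer_fintype fun w hw => by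
    obtain ⟨⟨u, hu⟩, hu'⟩ := (hr0.ge hw : w ∈ φ₀.range)
    have hmem : (s : Ω) * u * (s : Ω)⁻¹ ∈ P := conj_mem_of_normalizer s.2.2 hu
    rw [← hu', ← hψP u hu, ← map_inv, ← map_mul, ← map_mul]
    rw [show (s * ⟨u, hPN hu⟩ * s⁻¹ : N) = ⟨(s : Ω) * u * (s : Ω)⁻¹, hPN hmem⟩ from Subtype.ext rfl, hψP _ hmem]
    exact ((h : MulAut P) _).2⟩
  have hψg : ∃ w ∈ P, ψ ⟨g, hgN'⟩ = g ^ (4 : ℤ) * w := by
    refine ⟨(g ^ (4 : ℤ))⁻¹ * ψ ⟨g, hgN'⟩, hc.2 P (CfsgLib.Fusion.IsConj.refl hPS)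
      ⟨S.mul_mem (S.inv_mem (S.zpow_mem hgS _)) (val_mem hψmem _), Subgroup.mem_centralizer_iff.2 fun w hw => ?_⟩,
      (mul_inv_cancel_left _ _).symm⟩
    obtain ⟨⟨u, hu⟩, hu'⟩ := (hr0.ge hw : w ∈ φ₀.range)
    have hmem : g * u * g⁻¹ ∈ P := conj_mem_of_normalizer hgN hu
    have e1 : φ₀ ⟨g * u * g⁻¹, hmem⟩ = g ^ (4 : ℤ) * w * (g ^ (4 : ℤ))⁻¹ := by
      have h1 := congrArg (fun f : F.autGroup P => (((f : MulAut P) ((h : MulAut P) ⟨u, hu⟩) : P) : Ω)) hhb'
      simp only [Subgroup.coe_mul, InvMemClass.coe_inv, MulAut.mul_apply, MulAut.inv_apply_self,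
        SubgroupClass.coe_zpow, hbdef] at h1
      rw [← map_zpow] at h1
      simp only [conjAut_apply, SubgroupClass.coe_zpow] at h1
      rw [← hu']
      exact h1
    have e2 : φ₀ ⟨g * u * g⁻¹, hmem⟩ = ψ ⟨g, hgN'⟩ * w * (ψ ⟨g, hgN'⟩)⁻¹ := by
      rw [← hψP _ hmem, ← hu', ← hψP u hu, ← map_inv, ← map_mul, ← map_mul]
      exact congrArg ψ (Subtype.ext rfl)
    rw [e1] at e2
    calc w * ((g ^ (4 : ℤ))⁻¹ * ψ ⟨g, hgN'⟩)
        = (g ^ (4 : ℤ))⁻¹ * (g ^ (4 : ℤ) * w * (g ^ (4 : ℤ))⁻¹) * ψ ⟨g, hgN'⟩ := by group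
      _ = _ := by rw [e2]; group
  obtain ⟨w4, hw4, hψg⟩ := hψg
  have hmulpow : ∀ (n : ℤ) (w : Ω), w ∈ P → (w * g ^ n) ^ p = (g ^ p) ^ n := fun n w hw => by
    obtain ⟨e, he⟩ := hconjP w hw
    obtain ⟨c, hcen, hc'⟩ : ∃ e' : ℤ, True ∧ g ^ n * w * (g ^ n)⁻¹ = w * z ^ e' := by
      have hall' : ∀ n : ℤ, g ^ n * w * (g ^ n)⁻¹ = w * z ^ (e * n) := fun n => by
        induction n using Int.induction_on with
        | zero => simp
        | succ k ih =>
          rw [zpow_add_one, mul_inv_rev]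
          calc g ^ (k : ℤ) * g * w * (g⁻¹ * (g ^ (k : ℤ))⁻¹)
              = g ^ (k : ℤ) * (g * w * g⁻¹) * (g ^ (k : ℤ))⁻¹ := by group
            _ = g ^ (k : ℤ) * w * (g ^ (k : ℤ))⁻¹ * (g ^ (k : ℤ) * z ^ e * (g ^ (k : ℤ))⁻¹) := by rw [he]; group
            _ = _ := by rw [ih, ((cgz.zpow_left (k : ℤ)).zpow_right e).eq, mul_inv_cancel_right, mul_assoc,
                  ← zpow_add, mul_add, mul_one]
        | pred k ih =>
          have e' : g⁻¹ * w * g = w * z ^ (-e) := by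
            calc g⁻¹ * w * g = g⁻¹ * (g * w * g⁻¹ * (z ^ e)⁻¹) * g := by rw [he, mul_inv_cancel_right]
              _ = w * (g⁻¹ * (z ^ e)⁻¹ * g) := by group
              _ = _ := by rw [mul_assoc g⁻¹, ← ((cgz.zpow_right e).inv_right).eq, inv_mul_cancel_left, zpow_neg]
          rw [zpow_sub_one, mul_inv_rev, inv_inv]
          calc g ^ (-(k : ℤ)) * g⁻¹ * w * (g * (g ^ (-(k : ℤ)))⁻¹)
              = g ^ (-(k : ℤ)) * (g⁻¹ * w * g) * (g ^ (-(k : ℤ)))⁻¹ := by group
            _ = g ^ (-(k : ℤ)) * w * (g ^ (-(k : ℤ)))⁻¹ * (g ^ (-(k : ℤ)) * z ^ (-e) * (g ^ (-(k : ℤ)))⁻¹) := by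
              rw [e']; group
            _ = _ := by rw [ih, ((cgz.zpow_left (-(k : ℤ))).zpow_right (-e)).eq, mul_inv_cancel_right, mul_assoc,
                  ← zpow_add, mul_sub, mul_one, sub_eq_add_neg]
      exact ⟨_, trivial, hall' n⟩
    have hcomm : ⁅g ^ n, w⁆ = z ^ c := by
      rw [commutatorElement_def, hc']
      have hzw : Commute z w := by
        obtain ⟨i, j, rfl⟩ := hPgen w hw
        exact (haz.symm.zpow_right i).mul_right (Commute.self_zpow z j)
      rw [← (hzw.zpow_left c).eq, mul_inv_cancel_right]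
    let K := Subgroup.closure ({w, g ^ n} : Set Ω)
    let wK : K := ⟨w, Subgroup.subset_closure (by simp)⟩
    let gK : K := ⟨g ^ n, Subgroup.subset_closure (by simp)⟩
    have hK : ⁅gK, wK⁆ ∈ Subgroup.center K := by
      rw [Subgroup.mem_center_iff]
      intro v
      refine Subtype.ext ?_
      show (v : Ω) * ⁅g ^ n, w⁆ = ⁅g ^ n, w⁆ * v
      rw [hcomm]
      have hle : K ≤ Subgroup.centralizer {z ^ c} := (Subgroup.closure_le _).2 (by
        rintro _ (rfl | rfl)
        · obtain ⟨i, j, rfl⟩ := hPgen _ hw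
          exact Subgroup.mem_centralizer_singleton_iff.2
            (((haz.zpow_left i).mul_left (Commute.zpow_self z j)).zpow_right c).eq
        · exact Subgroup.mem_centralizer_singleton_iff.2 ((cgz.zpow_left n).zpow_right c).eq)
      exact Subgroup.mem_centralizer_singleton_iff.1 (hle v.2)
    obtain ⟨k, hk⟩ := CfsgLib.PGroup.dvd_choose_two (p := p) hp2
    have h1 := congrArg Subtype.val (CfsgLib.PGroup.mul_pow_central (x := wK) (y := gK) hK (n := p))
    change (w * g ^ n) ^ p = w ^ p * (g ^ n) ^ p * ⁅g ^ n, w⁆ ^ p.choose 2 at h1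
    rw [h1, hPexp w hw, hcomm, one_mul, hk, pow_mul, ← zpow_natCast (z ^ c) p, ← zpow_mul,
      zpow_eq_one_of_dvd hzp (dvd_mul_left _ _), one_pow, mul_one, ← zpow_natCast, ← zpow_natCast, zpow_comm]
  have hgp : g ^ p = 1 := by
    have hmem : g ^ p ∈ P := by
      refine hc.2 P (CfsgLib.Fusion.IsConj.refl hPS) ⟨S.pow_mem hgS _, Subgroup.mem_centralizer_iff.2 fun w hw => ?_⟩
      have h1 := congrArg (fun f : F.autGroup P => (((f : MulAut P) ⟨w, hw⟩ : P) : Ω)) hbp
      simp only [SubmonoidClass.coe_pow, hbdef, ← map_pow] at h1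
      have h2 : g ^ p * w * (g ^ p)⁻¹ = w := h1
      exact (mul_inv_eq_iff_eq_mul.1 h2).symm
    obtain ⟨i, j, hij⟩ := hPgen _ hmem
    have hpi : (p : ℤ) ∣ i := by
      have h1 : g * g ^ p * g⁻¹ = g ^ p := by rw [← pow_succ', pow_succ, mul_inv_cancel_right]
      rw [hij] at h1
      have h2 : g * (a ^ i * z ^ j) * g⁻¹ = a ^ i * z ^ i * z ^ j := by
        calc g * (a ^ i * z ^ j) * g⁻¹ = (g * a * g⁻¹) ^ i * (g * z * g⁻¹) ^ j := by
              rw [conj_zpow, conj_zpow]; group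
          _ = _ := by rw [hga, hgz, haz.mul_zpow]
      rw [h2, mul_left_inj, mul_eq_left, ← orderOf_dvd_iff_zpow_eq_one,
        orderOf_eq_prime hzp (fun e => hz1 (Subtype.ext (Subtype.ext e)))] at h1
      exact h1
    rw [zpow_eq_one_of_dvd hap hpi, one_mul] at hij
    have h4 : ψ ⟨g ^ p, hPN hmem⟩ = (g ^ (4 : ℤ) * w4) ^ p := by
      rw [← hψg, ← map_pow]; exact congrArg ψ (Subtype.ext rfl)
    have h5 : (g ^ (4 : ℤ) * w4) ^ p = (g ^ p) ^ (4 : ℤ) := by
      obtain ⟨w', hw', e⟩ : ∃ w' ∈ P, g ^ (4 : ℤ) * w4 = w' * g ^ (4 : ℤ) :=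
        ⟨g ^ (4 : ℤ) * w4 * (g ^ (4 : ℤ))⁻¹, conj_mem_of_normalizer hg4.2 hw4, (inv_mul_cancel_right _ _).symm⟩
      rw [e, hmulpow 4 w' hw']
    have h6 : ψ ⟨g ^ p, hPN hmem⟩ = (g ^ p) ^ (2 : ℤ) := by
      rw [hψP _ hmem, show (⟨g ^ p, hmem⟩ : P) = (zW : P) ^ j from Subtype.ext (by simpa [hzdef] using hij),
        map_zpow, hφz, hij, ← zpow_mul, ← zpow_mul, mul_comm]
    rw [h4, h5, hij, ← zpow_mul, ← zpow_mul, ← mul_inv_eq_one, ← zpow_sub, ← orderOf_dvd_iff_zpow_eq_one,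
      orderOf_eq_prime hzp (fun e => hz1 (Subtype.ext (Subtype.ext e))), ← mul_sub] at h6
    rcases (Nat.prime_iff_prime_int.1 hp.out).dvd_or_dvd h6 with hd | hd
    · rw [hij, zpow_eq_one_of_dvd hzp hd]
    · exfalso
      have : (p : ℤ) ≤ 2 := Int.le_of_dvd (by norm_num) (by simpa using hd)
      omega
  have hNexp : ∀ s ∈ N, s ^ p = 1 := fun s hs => by
    obtain ⟨n, w, hw, rfl⟩ := hNgen s hs
    rw [hmulpow n w hw, hgp, one_zpow]
  have hPcard : Nat.card P = p ^ 2 := by rw [← hcard, Subgroup.card_top]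
  haveI : Finite N := finite_of_le (inf_le_left : N ≤ S)
  have hNcard : Nat.card N = p ^ 3 := by
    have h1 : P < N := lt_of_le_of_ne hPN fun e => hgP (e.ge hgN')
    have h2 : Nat.card P < Nat.card N := lt_of_le_of_ne (Subgroup.card_le_of_le hPN)
      fun e => h1.ne (Subgroup.eq_of_le_of_card_ge hPN e.ge)
    obtain ⟨k, hk⟩ := IsPGroup.iff_card.1 (hS.to_le (show N ≤ S from inf_le_left))
    rw [hPcard, hk, Nat.pow_lt_pow_iff_right hp.out.one_lt] at h2
    have h3 : Nat.card N ≤ p * p ^ 2 := by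
      have hrange : (conjAut P S).range ≤ (Subgroup.zpowers b).map (F.autGroup P).subtype := by
        rintro _ ⟨⟨s, hs⟩, rfl⟩
        obtain ⟨n, w, hw, e⟩ := hNgen s hs
        refine ⟨b ^ n, Subgroup.zpow_mem_zpowers b n, MulEquiv.ext fun u => Subtype.ext ?_⟩
        rw [map_zpow, Subgroup.coe_subtype, hbdef, ← map_zpow, conjAut_apply, conjAut_apply, SubgroupClass.coe_zpow]
        have hv : g ^ n * (u : Ω) * (g ^ n)⁻¹ ∈ P := conj_mem_of_normalizer (Subgroup.zpow_mem _ hgN n) u.2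
        have hcw : Commute w (g ^ n * (u : Ω) * (g ^ n)⁻¹) :=
          congrArg Subtype.val (hab ⟨w, hw⟩ ⟨_, hv⟩)
        show g ^ n * (u : Ω) * (g ^ n)⁻¹ = s * (u : Ω) * s⁻¹
        rw [e]
        calc g ^ n * (u : Ω) * (g ^ n)⁻¹ = w * (g ^ n * (u : Ω) * (g ^ n)⁻¹) * w⁻¹ := by
              rw [hcw.eq, mul_inv_cancel_right]
          _ = _ := by group
      have hkerle : (conjAut P S).ker ≤ P.subgroupOf N := fun s hs => by
        rw [ker_conjAut, Subgroup.mem_subgroupOf] at hs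
        exact Subgroup.mem_subgroupOf.2 (hc.2 P (CfsgLib.Fusion.IsConj.refl hPS) hs)
      have h4 := Subgroup.card_eq_card_quotient_mul_card_subgroup (conjAut P S).ker
      rw [Nat.card_congr (QuotientGroup.quotientKerEquivRange _).toEquiv] at h4
      rw [h4]
      refine Nat.mul_le_mul ((Subgroup.card_le_of_le hrange).trans ?_) ((Subgroup.card_le_of_le hkerle).trans ?_)
      · rw [Subgroup.card_map_of_injective (F.autGroup P).subtype_injective, Nat.card_zpowers]
        exact Nat.le_of_dvd hp.out.pos (orderOf_dvd_of_pow_eq_one hbp)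
      · rw [Nat.card_congr (Subgroup.subgroupOfEquivOfLe hPN).toEquiv, hPcard]
    rw [hk, show p * p ^ 2 = p ^ 3 by ring, Nat.pow_le_pow_iff_right hp.out.one_lt] at h3
    rw [hk, show k = 3 by omega]
  have hNS : N < S := lt_of_le_of_ne inf_le_left fun e => hnotE ⟨e ▸ hNcard, by
    have hall' : ∀ s : S, s ^ p = 1 := fun s => Subtype.ext (by
      rw [Subgroup.coe_pow]; exact hNexp s (e.ge s.2))
    refine ((Nat.dvd_prime hp.out).1 (Monoid.exponent_dvd_of_forall_pow_eq_one hall')).resolve_left fun e1 => ?_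
    have := Monoid.exp_eq_one_iff.1 e1
    have h1 : Nat.card S = 1 := Nat.card_of_subsingleton 1
    rw [← e, hNcard] at h1
    have := Nat.one_lt_pow (n := 3) (by norm_num) hp.out.one_lt
    omega⟩
  -- move to a fully normalised conjugate
  obtain ⟨Q, ⟨φ, hφ, hφQ⟩, hQn⟩ := exists_fullyNormalized (F := F) (P := N) inf_le_left
  set e := isoOfHom (F.injective_of_mem hφ) hφQ with hedef
  have hQS : Q ≤ S := hQn.1
  haveI := finite_of_le hQS
  have hQcard : Nat.card Q = p ^ 3 := (Nat.card_congr e.toEquiv).symm.trans hNcard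
  set zN : N := ⟨z, hPN (zW : P).2⟩
  set aN : N := ⟨a, hPN (zW' : P).2⟩
  set gN : N := ⟨g, hgN'⟩
  set P' := (φ.comp (Subgroup.inclusion hPN)).range with hP'
  have hPP' : F.IsConj P P' := ⟨_, restrict hφ hPN, rfl⟩
  have hP'Q : P' ≤ Q := by rintro _ ⟨w, rfl⟩; exact mem_of_range_eq hφQ _
  have hQN' : Q ≤ normalizerIn S P' := fun q hq => ⟨hQS hq, by
    haveI := finite_of_le (CfsgLib.Fusion.IsConj.le_right hPP')
    refine Subgroup.mem_normalizer_fintype fun w hw => ?_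
    obtain ⟨u, rfl⟩ := hw
    obtain ⟨s, rfl⟩ := (hφQ.ge hq : q ∈ φ.range)
    refine ⟨⟨(s : Ω) * u * (s : Ω)⁻¹, conj_mem_of_normalizer s.2.2 u.2⟩, ?_⟩
    show φ _ = φ s * φ (Subgroup.inclusion hPN u) * (φ s)⁻¹
    rw [← map_inv, ← map_mul, ← map_mul]
    exact congrArg φ (Subtype.ext rfl)⟩
  haveI := finite_normalizerIn (S := S) P'
  have hQeq : Q = normalizerIn S P' := Subgroup.eq_of_le_of_card_ge hQN' (by
    rw [hQcard, ← hNcard]; exact hn.2 P' hPP')
  have hQc : centralizerIn S Q ≤ Q := fun s hs => hP'Q (hc.2 P' hPP'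
    ⟨hs.1, Subgroup.centralizer_le hP'Q hs.2⟩)
  have hQne : Q < S := lt_of_le_of_ne hQS fun e' => hNS.ne (by
    refine Subgroup.eq_of_le_of_card_ge inf_le_left ?_
    rw [← e', hQcard, hNcard])
  set T : Subgroup Q := ⊤ with hTdef
  have hQexp : ∀ w : T, w ^ p = 1 := fun w => Subtype.ext (by
    rw [Subgroup.coe_pow, OneMemClass.coe_one]
    apply e.symm.injective
    rw [map_pow, map_one]
    exact Subtype.ext (by rw [Subgroup.coe_pow, OneMemClass.coe_one]; exact hNexp _ (e.symm (w : Q)).2))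
  have hQnc : ¬ IsMulCommutative T := fun hcm => by
    have h1 : (⟨e gN, trivial⟩ : T) * ⟨e aN, trivial⟩ = ⟨e aN, trivial⟩ * ⟨e gN, trivial⟩ := hcm.is_comm.comm _ _
    have h2 := congrArg Subtype.val h1
    simp only [Subgroup.coe_mul, ← map_mul] at h2
    have h3 : g * a = a * g := congrArg Subtype.val (e.injective h2)
    rw [h3, mul_inv_cancel_right, left_eq_mul] at hga
    exact hz1 (Subtype.ext (Subtype.ext hga))
  have hH : Heis p T := heis hQexp (by rw [Subgroup.card_top, hQcard]) hQnc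
  set V := ↥T ⧸ Subgroup.center ↥T
  set mk : N → V := fun s => QuotientGroup.mk (⟨e s, trivial⟩ : T) with hmk
  have hzc : (⟨e zN, trivial⟩ : T) ∈ Subgroup.center T := by
    rw [Subgroup.mem_center_iff]
    rintro ⟨v, hv⟩
    obtain ⟨s, rfl⟩ := e.surjective v
    refine Subtype.ext ?_
    show e s * e zN = e zN * e s
    rw [← map_mul, ← map_mul]
    refine congrArg e (Subtype.ext ?_)
    show (s : Ω) * z = z * s
    obtain ⟨n, w, hw, es⟩ := hNgen s s.2
    obtain ⟨i, j, rfl⟩ := hPgen w hw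
    rw [es]
    exact ((((haz.zpow_left i).mul_left (Commute.zpow_self z j))).mul_left (cgz.zpow_left n)).eq
  have haV : mk aN ≠ 1 := fun e' => by
    have h1 := (QuotientGroup.eq_one_iff _).1 e'
    rw [Subgroup.mem_center_iff] at h1
    have h2 := congrArg Subtype.val (h1 ⟨e gN, trivial⟩)
    simp only [Subgroup.coe_mul, ← map_mul] at h2
    have h3 : g * a = a * g := congrArg Subtype.val (e.injective h2)
    rw [h3, mul_inv_cancel_right, left_eq_mul] at hga
    exact hz1 (Subtype.ext (Subtype.ext hga))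
  -- the automorphism of `Q`
  have hψinj : Function.Injective ψ := F.injective_of_mem hψmem
  have hψr : ψ.range = N :=
    CfsgLib.MetaResistant.subgroupOf_range_top hψinj inf_le_left hψN
  set hN : MulAut N := isoOfHom hψinj hψr
  have hhN : hN ∈ F.autGroup N := mem_autGroup_of_eq hψmem fun _ => rfl
  set h1 : F.autGroup Q := ⟨MulAut.congr e hN, congr_mem_autGroup hφ hφQ hhN⟩
  have hh1a : rep F T h1 (mk aN) = (mk aN) ^ m := by
    rw [hmk, rep_mk, ← QuotientGroup.mk_zpow]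
    congr 1
    refine Subtype.ext ?_
    show e (hN (e.symm (e aN))) = _
    rw [MulEquiv.symm_apply_apply, SubgroupClass.coe_zpow, ← map_zpow]
    congr 1
    refine Subtype.ext ?_
    show ψ aN = _
    rw [SubgroupClass.coe_zpow]
    exact (hψP a (zW' : P).2).trans (hφa _)
  -- an element of `S` normalising `Q`
  obtain ⟨g2, hg2, hg2Q⟩ := SetLike.exists_of_lt (lt_normalizerIn hS hQne)
  have hb2 : conjAut Q S ⟨g2, hg2⟩ ∈ F.autGroup Q :=
    autInducedBy_le_autGroup hQS (range_conjAut (P := Q) S ▸ ⟨_, rfl⟩)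
  set u := rep F T ⟨_, hb2⟩ with hu
  have hua : u (mk aN) ∉ Subgroup.zpowers (mk aN) := by
    intro hmem
    obtain ⟨i, hi⟩ := Subgroup.mem_zpowers_iff.1 hmem
    refine hg2Q (hQeq.ge ⟨hg2.1, ?_⟩)
    haveI := finite_of_le (CfsgLib.Fusion.IsConj.le_right hPP')
    refine Subgroup.mem_normalizer_fintype fun w hw => ?_
    obtain ⟨⟨w, hwP⟩, rfl⟩ := hw
    obtain ⟨i', j', rfl⟩ := hPgen w hwP
    have hP'mem : ∀ s : N, (s : Ω) ∈ P → ((e s : Q) : Ω) ∈ P' := fun s hs =>
      ⟨⟨s, hs⟩, congrArg φ (Subtype.ext rfl)⟩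
    have hctop : ∀ c : T, c ∈ Subgroup.center T → ∃ r : ℤ, (c : Q) = e (zN ^ r) := fun c hc' => by
      have hz : Subgroup.zpowers (⟨e zN, trivial⟩ : T) = Subgroup.center T :=
        Subgroup.eq_of_le_of_card_ge (Subgroup.zpowers_le.2 hzc) (by
          rw [Nat.card_zpowers, orderOf_eq_prime (hQexp _) (fun e' => hz1 (Subtype.ext (Subtype.ext (by
            have := congrArg Subtype.val (e.injective ((congrArg Subtype.val e').trans (map_one e).symm))
            exact this)))), hH.cardZ])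
      obtain ⟨r, hr'⟩ := Subgroup.mem_zpowers_iff.1 (hz.ge hc')
      exact ⟨r, by rw [← hr', map_zpow]; rfl⟩
    have hconjc : ∀ c : T, c ∈ Subgroup.center T →
        MulAut.characteristic T (conjAut Q S ⟨g2, hg2⟩) c ∈ Subgroup.center T := fun c hc' =>
      map_center (MulAut.characteristic T (conjAut Q S ⟨g2, hg2⟩)) ▸ Subgroup.mem_map_of_mem _ hc'
    -- the image of `a`
    have hA : g2 * ((e aN : Q) : Ω) * g2⁻¹ ∈ P' := by
      rw [hu, hmk, rep_mk] at hi
      obtain ⟨r, hr'⟩ := hctop _ (QuotientGroup.eq.1 ((QuotientGroup.mk_zpow _ _ _).trans hi))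
      have : (conjAut Q S ⟨g2, hg2⟩ (e aN) : Q) = e (aN ^ i * zN ^ r) := by
        rw [map_mul, ← hr', map_zpow]
        simp [val_characteristic]
      have h2 := congrArg Subtype.val this
      rw [conjAut_apply] at h2
      rw [h2]
      refine hP'mem _ ?_
      rw [Subgroup.coe_mul, SubgroupClass.coe_zpow, SubgroupClass.coe_zpow]
      exact P.mul_mem (P.zpow_mem (zW' : P).2 _) (P.zpow_mem (zW : P).2 _)
    have hZ : g2 * ((e zN : Q) : Ω) * g2⁻¹ ∈ P' := by
      obtain ⟨r, hr'⟩ := hctop _ (hconjc _ hzc)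
      have h2 := congrArg Subtype.val hr'
      have h3 : g2 * ((e zN : Q) : Ω) * g2⁻¹ = ((e (zN ^ r) : Q) : Ω) := h2
      rw [h3]
      refine hP'mem _ ?_
      rw [SubgroupClass.coe_zpow]
      exact P.zpow_mem (zW : P).2 _
    have hsplit : (φ.comp (Subgroup.inclusion hPN)) ⟨a ^ i' * z ^ j', hwP⟩ =
        ((e aN : Q) : Ω) ^ i' * ((e zN : Q) : Ω) ^ j' := by
      rw [isoOfHom_apply, isoOfHom_apply, ← map_zpow, ← map_zpow, ← map_mul]
      exact congrArg φ (Subtype.ext (by simp [aN, zN]))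
    rw [hsplit]
    rw [show g2 * (((e aN : Q) : Ω) ^ i' * ((e zN : Q) : Ω) ^ j') * g2⁻¹ =
      (g2 * ((e aN : Q) : Ω) * g2⁻¹) ^ i' * (g2 * ((e zN : Q) : Ω) * g2⁻¹) ^ j' by rw [conj_zpow, conj_zpow]; group]
    exact P'.mul_mem (P'.zpow_mem hA _) (P'.zpow_mem hZ _)
  have hupow : IsPGroup p (Subgroup.zpowers u) := by
    let f : ↥(normalizerIn S Q) →* MulAut V := (modCenter.comp (MulAut.characteristic T)).comp (conjAut Q S)
    exact (((hS.to_le inf_le_left).of_surjective f.rangeRestrict f.rangeRestrict_surjective)).to_le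
      (Subgroup.zpowers_le.2 ⟨⟨g2, hg2⟩, rfl⟩)
  haveI : Finite (MulAut V) := Finite.of_injective (fun α : MulAut V => (α : V → V)) DFunLike.coe_injective
  obtain ⟨L0, hL0, hfix, hline, -⟩ := CfsgLib.Fusion.pGroup_aut_square hH.cardV hH.expV _ hupow
  have huL0 : u L0 = L0 := hfix u (Subgroup.mem_zpowers u)
  obtain ⟨i, hi⟩ := Subgroup.mem_zpowers_iff.1 (hline u (Subgroup.mem_zpowers u) (mk aN))
  set L1 := L0 ^ i with hL1
  have huL1 : u L1 = L1 := by rw [hL1, map_zpow, huL0]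
  have huA : u (mk aN) = mk aN * L1 := eq_mul_of_inv_mul_eq hi.symm
  have hL1ne : L1 ≠ 1 := fun e' => hua (by rw [huA, e', mul_one]; exact Subgroup.mem_zpowers _)
  have hAL : mk aN ∉ Subgroup.zpowers L1 := fun hmem => hua (by
    obtain ⟨j, hj⟩ := Subgroup.mem_zpowers_iff.1 hmem
    rw [← hj, map_zpow, huL1]
    exact Subgroup.mem_zpowers _)
  have hinn : ∀ q : Q, modCenter (MulAut.characteristic T (MulAut.conj q)) = 1 := fun q => MulEquiv.ext fun v => by
    obtain ⟨w, rfl⟩ := QuotientGroup.mk_surjective v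
    rw [modCenter_mk, MulAut.one_apply]
    have hcm := IsPGroup.commutative_of_card_eq_prime_sq hH.cardV
    rw [show MulAut.characteristic T (MulAut.conj q) w = ⟨q, trivial⟩ * w * ⟨q, trivial⟩⁻¹ from Subtype.ext rfl,
      QuotientGroup.mk_mul, QuotientGroup.mk_mul, QuotientGroup.mk_inv, hcm (QuotientGroup.mk _), mul_inv_cancel_right]
  have hmp : ¬ (p : ℤ) ∣ m := fun hd => by
    have h1 : (p : ℤ) ∣ 1 := by have := dvd_sub (hd.mul_left 2) hm; rwa [sub_sub_cancel] at this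
    exact hp.out.not_dvd_one (by exact_mod_cast h1)
  have hm2 : ¬ (p : ℤ) ∣ m * m - 1 := fun hd => by
    obtain ⟨u1, hu1⟩ := hd
    obtain ⟨u2, hu2⟩ := hm
    have h3 : (p : ℤ) ∣ 3 := ⟨(2 * m + 1) * u2 - 4 * u1, by linear_combination (2 * m + 1) * hu2 - 4 * hu1⟩
    have : (p : ℤ) ≤ 3 := Int.le_of_dvd (by norm_num) h3
    omega
  have hC : ∀ (x' l' : V), l' ≠ 1 → x' ∉ Subgroup.zpowers l' →
      ∀ c ∈ Q, (∀ w : T, Commute ((w : Q) : Ω) c) → Commute g2 c := by
    intro x' l' hl' hx' c hc hcw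
    -- `c` is central in `Q`, and `S` fixes the centre
    have hcC : (⟨⟨c, hc⟩, trivial⟩ : T) ∈ Subgroup.center T :=
      Subgroup.mem_center_iff.2 fun w => Subtype.ext (Subtype.ext (hcw w).eq)
    let f : ↥(normalizerIn S Q) →* MulAut (Subgroup.center T) :=
      (MulAut.characteristic (Subgroup.center T)).comp ((MulAut.characteristic T).comp (conjAut Q S))
    haveI : IsCyclic (Subgroup.center T) := isCyclic_of_prime_card (p := p) hH.cardZ
    have hp' : IsPGroup p f.range := (hS.to_le inf_le_left).of_surjective f.rangeRestrict f.rangeRestrict_surjective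
    have hf : f ⟨g2, hg2⟩ = 1 := by
      obtain ⟨k, hk⟩ := hp' ⟨_, ⟨g2, hg2⟩, rfl⟩
      have h2 : orderOf (f ⟨g2, hg2⟩) ∣ p ^ k := orderOf_dvd_of_pow_eq_one (congrArg Subtype.val hk)
      haveI : Finite (MulAut (Subgroup.center T)) :=
        Finite.of_injective (fun α : MulAut (Subgroup.center T) => (α : Subgroup.center T → Subgroup.center T))
          DFunLike.coe_injective
      have h3 : orderOf (f ⟨g2, hg2⟩) ∣ p - 1 := by
        refine (_root_.orderOf_dvd_natCard _).trans ?_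
        rw [IsCyclic.card_mulAut, hH.cardZ, Nat.totient_prime hp.out]
      have hco : (p - 1).Coprime (p ^ k) := (Nat.Coprime.pow_right k
        ((hp.out.coprime_iff_not_dvd.2 fun hd => by
          have := Nat.le_of_dvd (by omega) hd
          omega).symm))
      exact orderOf_eq_one_iff.1 (Nat.eq_one_of_dvd_coprimes hco h3 h2)
    have h4 : g2 * c * g2⁻¹ = c :=
      congrArg (fun α : MulAut (Subgroup.center T) => ((((α ⟨_, hcC⟩ : Subgroup.center T) : T) : Q) : Ω)) hf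
    exact (mul_inv_eq_iff_eq_mul.1 h4 :)
  by_cases hcase : rep F T h1 L1 ∈ Subgroup.zpowers L1
  · obtain ⟨α, hα⟩ := Subgroup.mem_zpowers_iff.1 hcase
    exact false_of_frame hp5 hS hF hrk hQn hQc T hH hinn hg2.1 hg2.2 hg2Q hb2 hL1ne hAL huL1 huA
      (h := h1) hα.symm hh1a hmp hm2 (.inr (hC _ _ hL1ne hAL))
  · -- two fixed lines
    set y := rep F T (h1 * ⟨_, hb2⟩ * h1⁻¹) with hy
    have hy' : IsPGroup p (Subgroup.zpowers y) := by
      have : Subgroup.zpowers y = (Subgroup.zpowers u).map (MulAut.conj (rep F T h1)).toMonoidHom := by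
        rw [MonoidHom.map_zpowers, hy, map_mul, map_mul, map_inv]; rfl
      rw [this]
      exact hupow.map _
    have hu1 : u ≠ 1 := fun e' => hua (by rw [e']; exact Subgroup.mem_zpowers _)
    have hyu : y ∉ Subgroup.zpowers u := fun hmem => by
      obtain ⟨n, hn'⟩ := Subgroup.mem_zpowers_iff.1 hmem
      have h5 : y (rep F T h1 L1) = rep F T h1 L1 := by
        rw [hy, map_mul, map_mul, map_inv, MulAut.mul_apply, MulAut.mul_apply, MulAut.inv_apply_self, ← hu, huL1]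
      have h6 : y L1 = L1 := by
        have hst : Subgroup.zpowers u ≤ MulAction.stabilizer (MulAut V) L1 := Subgroup.zpowers_le.2 huL1
        exact hst hmem
      have hgen := sup_zpowers_eq_top hH.cardV hH.expV hL1ne hcase
      have hy1 : y = 1 := MulEquiv.ext fun v => by
        have hle : (⊤ : Subgroup V) ≤ y.toMonoidHom.eqLocus (MonoidHom.id V) := by
          rw [← hgen]
          exact sup_le (Subgroup.zpowers_le.2 h6) (Subgroup.zpowers_le.2 h5)
        exact hle (Subgroup.mem_top v)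
      rw [hy, map_mul, map_mul, map_inv, conj_eq_one_iff] at hy1
      exact hu1 hy1
    obtain ⟨l', x', hl', hx', htl, htx, -, hd⟩ := exists_diag hH.cardV hH.expV (X := (rep F T).range)
      ⟨_, rfl⟩ ⟨_, rfl⟩ hupow hy' hu1 hyu
    obtain ⟨σ, ⟨h2, rfl⟩, hh2l, hh2x, -⟩ := hd 2 m hm
    exact false_of_frame hp5 hS hF hrk hQn hQc T hH hinn hg2.1 hg2.2 hg2Q hb2 hl' hx' htl htx
      (h := h2) hh2l hh2x hmp hm2 (.inr (hC _ _ hl' hx'))

end CfsgLib.RankTwoResistant
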