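import Cfsg.Agent.Fusion.EssentialSquare
import Cfsg.Agent.PLocalBasics.AutRankTwo
import Cfsg.Agent.MetaResistant.Line
import Cfsg.Agent.RankOneP.Basic

/-!
Group-theoretic tools for the resistance of `p`-groups of rank two, `p ≥ 5`.
-/

set_option autoImplicit false
set_option linter.style.haveILetI false

open scoped commutatorElement

namespace CfsgLib.RankTwoResistant

variable {p : ℕ} [hp : Fact p.Prime]

/-- A finite group without nontrivial elements of order prime to `p` is a `p`-group. -/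
lemma isPGroup_of_coprime_eq_one {X : Type*} [Group X] [Finite X]
    (h : ∀ x : X, (orderOf x).Coprime p → x = 1) : IsPGroup p X := by
  intro x
  obtain ⟨k, m, hm, hkm⟩ := Nat.exists_eq_pow_mul_and_not_dvd (orderOf_pos x).ne' p hp.out.ne_one
  refine ⟨k, h _ ?_⟩
  rw [orderOf_pow' x (pow_ne_zero _ hp.out.ne_zero), hkm, Nat.gcd_mul_right_left,
    Nat.mul_div_cancel_left _ (pow_pos hp.out.pos k)]
  exact (hp.out.coprime_iff_not_dvd.2 hm).symm

/-- A group of exponent `p` without abelian subgroups of order above `p²` has order at most `p³`. -/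
lemma card_le_cube {W : Type*} [Group W] [Finite W] (hexp : ∀ x : W, x ^ p = 1)
    (hrk : ∀ A : Subgroup W, IsMulCommutative A → Nat.card A ≤ p ^ 2) : Nat.card W ≤ p ^ 3 := by
  have hW : IsPGroup p W := fun x => ⟨1, by rw [pow_one]; exact hexp x⟩
  obtain ⟨A, hA, hmax⟩ := (Set.toFinite {A : Subgroup W | IsMulCommutative A ∧ A.Normal}).exists_maximal
    ⟨⊥, inferInstanceAs (IsMulCommutative ↥(⊥ : Subgroup W)), inferInstance⟩
  haveI := hA.1
  haveI := hA.2
  have hC : Subgroup.centralizer (A : Set W) = A :=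
    CfsgLib.PGroup.centralizer_maximal_normal_abelian hW hA.1 fun B hBn hB hAB => le_antisymm (hmax ⟨hB, hBn⟩ hAB) hAB
  have h2 := hrk A hA.1
  obtain ⟨k, hk⟩ := IsPGroup.iff_card.1 (hW.to_subgroup A)
  have hk2 : k ≤ 2 := by rw [hk, Nat.pow_le_pow_iff_right hp.out.one_lt] at h2; exact h2
  rcases lt_or_eq_of_le hk2 with hlt | rfl
  · have hcen : A ≤ Subgroup.center W := CfsgLib.PLocalBasics.le_center_of_card_le hW inferInstance
      (hk ▸ (Nat.pow_le_pow_right hp.out.pos (by omega : k ≤ 1)).trans (pow_one p).le)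
    have htop : A = ⊤ := by rw [← hC, eq_top_iff]; exact fun x _ => Subgroup.mem_centralizer_iff.2 fun a ha =>
      ((Subgroup.mem_center_iff.1 (hcen ha)) x).symm
    rw [← Subgroup.card_top, ← htop, hk]
    exact Nat.pow_le_pow_right hp.out.pos (by omega)
  let f : W →* MulAut A := MulAut.conjNormal
  have hker : f.ker ≤ A := fun x hx => hC.le (Subgroup.mem_centralizer_iff.2 fun a ha => by
    have := congrArg Subtype.val (DFunLike.congr_fun (MonoidHom.mem_ker.1 hx) ⟨a, ha⟩)
    rw [MulAut.conjNormal_apply, MulAut.one_apply] at this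
    exact (mul_inv_eq_iff_eq_mul.1 this).symm)
  obtain ⟨u, -, -, -, hle⟩ := CfsgLib.Fusion.pGroup_aut_square hk (fun a => Subtype.ext (hexp a)) f.range
    (hW.of_surjective f.rangeRestrict f.rangeRestrict_surjective)
  have h3 := Subgroup.card_eq_card_quotient_mul_card_subgroup f.ker
  rw [Nat.card_congr (QuotientGroup.quotientKerEquivRange f).toEquiv] at h3
  rw [h3]
  calc Nat.card f.range * Nat.card f.ker ≤ p * p ^ 2 :=
        Nat.mul_le_mul hle ((Subgroup.card_le_of_le hker).trans hk.le)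
    _ = p ^ 3 := by ring

/-- Two elements of order `p` in general position in a group of order `p²` generate it. -/
lemma sup_zpowers_eq_top {H : Type*} [Group H] [Finite H] (hcard : Nat.card H = p ^ 2) (hexp : ∀ x : H, x ^ p = 1)
    {a b : H} (ha : a ≠ 1) (hb : b ∉ Subgroup.zpowers a) : Subgroup.zpowers a ⊔ Subgroup.zpowers b = ⊤ := by
  have h1 : Nat.card (Subgroup.zpowers a) = p := by rw [Nat.card_zpowers, orderOf_eq_prime (hexp a) ha]
  have hlt : Subgroup.zpowers a < Subgroup.zpowers a ⊔ Subgroup.zpowers b :=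
    lt_of_le_of_ne le_sup_left fun e => hb (e.symm ▸ Subgroup.mem_sup_right (Subgroup.mem_zpowers b))
  obtain ⟨k, hk, hk'⟩ := (Nat.dvd_prime_pow hp.out).1
    ((Subgroup.card_subgroup_dvd_card (Subgroup.zpowers a ⊔ Subgroup.zpowers b)).trans hcard.dvd)
  refine Subgroup.eq_top_of_card_eq _ ?_
  rw [hk', hcard]
  rcases eq_or_lt_of_le hk with rfl | hk2
  · rfl
  exfalso
  refine hlt.ne (Subgroup.eq_of_le_of_card_ge le_sup_left ?_)
  rw [h1, hk']
  exact (Nat.pow_le_pow_right hp.out.pos (by omega : k ≤ 1)).trans (pow_one p).le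

lemma zpow_eq_one_of_dvd {G : Type*} [Group G] {x : G} (hx : x ^ p = 1) {n : ℤ} (hn : (p : ℤ) ∣ n) : x ^ n = 1 := by
  obtain ⟨c, rfl⟩ := hn
  rw [zpow_mul, zpow_natCast, hx, one_zpow]

lemma zpow_congr {G : Type*} [Group G] {x : G} (hx : x ^ p = 1) {m n : ℤ} (h : (p : ℤ) ∣ m - n) : x ^ m = x ^ n := by
  rw [← mul_inv_eq_one, ← zpow_sub]
  exact zpow_eq_one_of_dvd hx h

/-- Two automorphisms of `p`-power order with different fixed lines give diagonal automorphisms. -/
theorem exists_diag {H : Type*} [Group H] [Finite H] (hcard : Nat.card H = p ^ 2) (hexp : ∀ x : H, x ^ p = 1)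
    {X : Subgroup (MulAut H)} {t y : MulAut H} (htX : t ∈ X) (hyX : y ∈ X) (ht : IsPGroup p (Subgroup.zpowers t))
    (hy : IsPGroup p (Subgroup.zpowers y)) (ht1 : t ≠ 1) (hyt : y ∉ Subgroup.zpowers t) :
    ∃ z z' : H, z ≠ 1 ∧ z' ∉ Subgroup.zpowers z ∧ t z = z ∧ t z' = z' * z ∧ y z ≠ z ∧
      ∀ k m : ℤ, (p : ℤ) ∣ k * m - 1 →
        ∃ h ∈ X, h z = z ^ k ∧ h z' = z' ^ m ∧ h * t * h⁻¹ = t ^ (k * k) := by
  haveI : Finite (MulAut H) := Finite.of_injective (fun α : MulAut H => (α : H → H)) DFunLike.coe_injective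
  have hcomm : ∀ a b : H, a * b = b * a := fun a b => (IsPGroup.commutative_of_card_eq_prime_sq hcard) a b
  obtain ⟨u, hu, hfix, hline, -⟩ := CfsgLib.Fusion.pGroup_aut_square hcard hexp _ ht
  obtain ⟨v, hv, hfix', hline', -⟩ := CfsgLib.Fusion.pGroup_aut_square hcard hexp _ hy
  have htu : t u = u := hfix t (Subgroup.mem_zpowers t)
  have hyv : y v = v := hfix' y (Subgroup.mem_zpowers y)
  have hvu : v ∉ Subgroup.zpowers u := by
    intro hvu
    -- then `y` is a power of `t`
    obtain ⟨i, rfl⟩ := Subgroup.mem_zpowers_iff.1 hvu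
    obtain ⟨w, hw⟩ : ∃ w, w ∉ Subgroup.zpowers u := by
      by_contra hh
      push Not at hh
      have h1 : Nat.card (Subgroup.zpowers u) = Nat.card H := by
        rw [(Subgroup.eq_top_iff' _).2 hh, Subgroup.card_top]
      rw [Nat.card_zpowers, orderOf_eq_prime (hexp u) hu, hcard] at h1
      nlinarith [hp.out.two_le]
    have hsub : Subgroup.zpowers (u ^ i) = Subgroup.zpowers u :=
      Subgroup.eq_of_le_of_card_ge (Subgroup.zpowers_le.2 (Subgroup.zpow_mem_zpowers u i))
        (by rw [Nat.card_zpowers, Nat.card_zpowers, orderOf_eq_prime (hexp _) hv, orderOf_eq_prime (hexp u) hu])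
    obtain ⟨j, hj⟩ := Subgroup.mem_zpowers_iff.1 (hsub.le (hline' y (Subgroup.mem_zpowers y) w))
    obtain ⟨a, ha⟩ := Subgroup.mem_zpowers_iff.1 (hline t (Subgroup.mem_zpowers t) w)
    have hgen := sup_zpowers_eq_top hcard hexp hu hw
    have hext : ∀ σ τ : MulAut H, σ u = τ u → σ w = τ w → σ = τ := fun σ τ h1 h2 => MulEquiv.ext fun x => by
      have hle : (⊤ : Subgroup H) ≤ σ.toMonoidHom.eqLocus τ.toMonoidHom := by
        rw [← hgen]
        exact sup_le (Subgroup.zpowers_le.2 h1) (Subgroup.zpowers_le.2 h2)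
      exact hle (Subgroup.mem_top x)
    have hyu : y u = u := by
      obtain ⟨l, hl⟩ := Subgroup.mem_zpowers_iff.1 (hsub.ge (Subgroup.mem_zpowers u))
      rw [← hl, map_zpow, hyv]
    have hpa : ¬ (p : ℤ) ∣ a := fun hd => ht1 (hext t 1 htu (by
      rw [zpow_eq_one_of_dvd (hexp u) hd, eq_inv_mul_iff_mul_eq, mul_one] at ha
      exact ha.symm))
    obtain ⟨n, hn1, hn2⟩ := CfsgLib.MetaResistant.exists_pow_shear (t := t) (z := u) (l := w) (hexp u) hpa htu
      (eq_mul_of_inv_mul_eq ha.symm) j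
    exact hyt ⟨(n : ℤ), hext _ y (by
      show (t ^ (n : ℤ)) u = y u
      rw [zpow_natCast, hn1, hyu]) (by
      show (t ^ (n : ℤ)) w = y w
      rw [zpow_natCast, hn2, hj, mul_inv_cancel_left])⟩
  -- the coordinates
  obtain ⟨a, ha⟩ := Subgroup.mem_zpowers_iff.1 (hline t (Subgroup.mem_zpowers t) v)
  have hgen := sup_zpowers_eq_top hcard hexp hu hvu
  have hpa : ¬ (p : ℤ) ∣ a := fun hd => ht1 (MulEquiv.ext fun x => by
    rw [zpow_eq_one_of_dvd (hexp u) hd, eq_inv_mul_iff_mul_eq, mul_one] at ha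
    have hle : (⊤ : Subgroup H) ≤ t.toMonoidHom.eqLocus (MonoidHom.id H) := by
      rw [← hgen]
      exact sup_le (Subgroup.zpowers_le.2 htu) (Subgroup.zpowers_le.2 ha.symm)
    exact hle (Subgroup.mem_top x))
  set z := u ^ a with hzdef
  have hz1 : z ≠ 1 := fun h => hpa (by
    have := orderOf_dvd_iff_zpow_eq_one.2 h
    rwa [orderOf_eq_prime (hexp u) hu] at this)
  have hzu : Subgroup.zpowers z = Subgroup.zpowers u :=
    Subgroup.eq_of_le_of_card_ge (Subgroup.zpowers_le.2 (Subgroup.zpow_mem_zpowers u a))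
      (by rw [Nat.card_zpowers, Nat.card_zpowers, orderOf_eq_prime (hexp z) hz1, orderOf_eq_prime (hexp u) hu])
  have htz : t z = z := by rw [hzdef, map_zpow, htu]
  have htv : t v = v * z := eq_mul_of_inv_mul_eq ha.symm
  have hvz : v ∉ Subgroup.zpowers z := hzu ▸ hvu
  have hgen' := sup_zpowers_eq_top hcard hexp hz1 hvz
  clear_value z
  have hext : ∀ σ τ : MulAut H, σ z = τ z → σ v = τ v → σ = τ := fun σ τ h1 h2 => MulEquiv.ext fun x => by
    have hle : (⊤ : Subgroup H) ≤ σ.toMonoidHom.eqLocus τ.toMonoidHom := by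
      rw [← hgen']
      exact sup_le (Subgroup.zpowers_le.2 h1) (Subgroup.zpowers_le.2 h2)
    exact hle (Subgroup.mem_top x)
  obtain ⟨b, hb⟩ := Subgroup.mem_zpowers_iff.1 (hline' y (Subgroup.mem_zpowers y) z)
  have hyz : y z = z * v ^ b := eq_mul_of_inv_mul_eq hb.symm
  have hpb : ¬ (p : ℤ) ∣ b := fun hd => hyt (by
    rw [zpow_eq_one_of_dvd (hexp v) hd, mul_one] at hyz
    rw [hext y 1 hyz hyv]
    exact one_mem _)
  have hyne : y z ≠ z := fun e => hpb (by
    rw [hyz, mul_eq_left] at e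
    have := orderOf_dvd_iff_zpow_eq_one.2 e
    rwa [orderOf_eq_prime (hexp v) hv] at this)
  refine ⟨z, v, hz1, hvz, htz, htv, hyne, fun k m hkm => ?_⟩
  -- `w c` is antidiagonal
  have hw : ∀ c d : ℤ, (p : ℤ) ∣ c * d + 1 → ∃ σ ∈ X, σ z = v ^ d ∧ σ v = z ^ c := by
    intro c d hcd
    obtain ⟨n, hn1, hn2⟩ := CfsgLib.MetaResistant.exists_pow_shear (t := t) (z := z) (l := v) (hexp z)
      (a := 1) (fun h => hp.out.not_dvd_one (by exact_mod_cast h)) htz (by rw [zpow_one]; exact htv) c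
    obtain ⟨n', hn1', hn2'⟩ := CfsgLib.MetaResistant.exists_pow_shear (t := y) (z := v) (l := z) (hexp v)
      hpb hyv hyz d
    refine ⟨t ^ n * y ^ n' * t ^ n, mul_mem (mul_mem (pow_mem htX _) (pow_mem hyX _)) (pow_mem htX _), ?_, ?_⟩
    · rw [MulAut.mul_apply, MulAut.mul_apply, hn1, hn2', map_mul, map_zpow, hn1, hn2,
        Commute.mul_zpow (hcomm v (z ^ c)), ← zpow_mul, hcomm (v ^ d), ← mul_assoc]
      conv_lhs => enter [1, 1]; rw [← zpow_one z]
      rw [← zpow_add, zpow_eq_one_of_dvd (hexp z) (by rwa [add_comm]), one_mul]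
    · rw [MulAut.mul_apply, MulAut.mul_apply, hn2, map_mul, map_zpow, hn1', hn2',
        Commute.mul_zpow (hcomm z (v ^ d)), ← zpow_mul, hcomm (z ^ c), ← mul_assoc]
      have e : v * v ^ (d * c) = 1 := by
        rw [mul_comm d c, ← zpow_one_add, zpow_eq_one_of_dvd (hexp v) (by rwa [add_comm])]
      rw [e, one_mul, map_zpow, hn1]
  obtain ⟨w1, hw1X, hw1z, hw1v⟩ := hw k (-m) (by
    obtain ⟨e, he⟩ := hkm; exact ⟨-e, by linear_combination -he⟩)
  obtain ⟨w0, hw0X, hw0z, hw0v⟩ := hw (-1) 1 ⟨0, by ring⟩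
  have hz : (w1 * w0) z = z ^ k := by rw [MulAut.mul_apply, hw0z, zpow_one, hw1v]
  have hv' : (w1 * w0) v = v ^ m := by
    rw [MulAut.mul_apply, hw0v, map_zpow, hw1z, ← zpow_mul, neg_mul_neg, mul_one]
  refine ⟨w1 * w0, mul_mem hw1X hw0X, hz, hv', hext _ _ ?_ ?_⟩
  · have htk : ∀ n : ℤ, (t ^ n) z = z := fun n => by
      have hst : Subgroup.zpowers t ≤ MulAction.stabilizer (MulAut H) z := Subgroup.zpowers_le.2 htz
      exact hst (Subgroup.zpow_mem_zpowers t n)
    have hinv : (w1 * w0)⁻¹ z = z ^ m := by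
      apply (w1 * w0).injective
      rw [MulAut.apply_inv_self, map_zpow, hz, ← zpow_mul]
      exact (zpow_one z).symm.trans (zpow_congr (hexp z) (dvd_neg.1 (by simpa [neg_sub] using hkm)))
    rw [MulAut.mul_apply, MulAut.mul_apply, hinv, map_zpow, map_zpow, htz, htk, hz, ← zpow_mul]
    exact (zpow_congr (hexp z) hkm).trans (zpow_one z)
  · have hinv : (w1 * w0)⁻¹ v = v ^ k := by
      apply (w1 * w0).injective
      rw [MulAut.apply_inv_self, map_zpow, hv', ← zpow_mul, mul_comm]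
      exact (zpow_one v).symm.trans (zpow_congr (hexp v) (dvd_neg.1 (by simpa [neg_sub] using hkm)))
    obtain ⟨n, hn1, hn2⟩ : ∃ n : ℤ, n = k * k ∧ (t ^ n) v = v * z ^ n := by
      refine ⟨k * k, rfl, ?_⟩
      obtain ⟨j, hj | hj⟩ := Int.eq_nat_or_neg (k * k)
      · rw [hj, zpow_natCast t, (CfsgLib.MetaResistant.shear_pow (a := 1) htz (by rw [zpow_one]; exact htv) j).2,
          one_mul]
      · have : k * k = 0 := by nlinarith [mul_self_nonneg k]
        simp [this]
    rw [MulAut.mul_apply, MulAut.mul_apply, hinv, map_zpow, htv, map_zpow, map_mul, hv', hz, ← hn1, hn2,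
      Commute.mul_zpow (hcomm (v ^ m) (z ^ k)), ← zpow_mul, ← zpow_mul]
    rw [hn1, zpow_congr (hexp v) (show (p : ℤ) ∣ m * k - 1 by rwa [mul_comm]), zpow_one]

/-- In rank two the centraliser of a nonabelian pair of elements of order `p` is cyclic. -/
lemma isCyclic_centralizer {Ω : Type*} [Group Ω] {S : Subgroup Ω} [Finite S] (hp2 : p ≠ 2) (hS : IsPGroup p S)
    (hrk : ∀ A : Subgroup Ω, A ≤ S → Cfsg.IsElementaryAbelian p A → Nat.card A ≤ p ^ 2)
    {x l : Ω} (hlS : l ∈ S) (hl : l ^ p = 1) (hxl : ¬ Commute x l) :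
    IsCyclic ↥(S ⊓ Subgroup.centralizer ({x, l} : Set Ω)) := by
  set C := S ⊓ Subgroup.centralizer ({x, l} : Set Ω) with hC
  haveI : Finite C := Finite.of_injective (Subgroup.inclusion (inf_le_left : C ≤ S)) (Subgroup.inclusion_injective _)
  have hx : ∀ c ∈ C, Commute x c := fun c hc => Subgroup.mem_centralizer_iff.1 hc.2 x (Set.mem_insert _ _)
  have hl' : ∀ c ∈ C, Commute l c := fun c hc => Subgroup.mem_centralizer_iff.1 hc.2 l (Set.mem_insert_of_mem _ rfl)
  have hlC : l ∉ C := fun h => hxl (hx l h)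
  refine CfsgLib.RankOneP.isCyclic_of_odd hp2 (hS.to_le inf_le_left)
    (CfsgLib.RankOneP.unique_of_rank_le_one (hS.to_le inf_le_left) fun A hA hAexp => ?_)
  by_contra hgt
  push Not at hgt
  -- `A` and `l` generate an elementary abelian group which is too big
  set A' := A.map C.subtype with hA'def
  have hA'C : A' ≤ C := Subgroup.map_subtype_le A
  have hA'card : Nat.card A' = Nat.card A := Subgroup.card_map_of_injective C.subtype_injective
  have hA'exp : ∀ u ∈ A', u ^ p = 1 := by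
    rintro _ ⟨u, hu, rfl⟩
    exact congrArg Subtype.val (hAexp u hu)
  set B := A' ⊔ Subgroup.zpowers l with hBdef
  have hgen : B = Subgroup.closure ((A' : Set Ω) ∪ {l}) := by
    rw [Subgroup.closure_union, Subgroup.closure_eq, ← Subgroup.zpowers_eq_closure]
  have hBc : IsMulCommutative B := by
    rw [hgen]
    refine Subgroup.isMulCommutative_closure ?_
    rintro u hu v hv
    rcases hu with hu | rfl <;> rcases hv with hv | rfl
    · obtain ⟨u', hu', rfl⟩ := hu
      obtain ⟨v', hv', rfl⟩ := hv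
      haveI := hA
      exact congrArg Subtype.val (Subgroup.mul_comm_of_mem_isMulCommutative (H := A) hu' hv')
    · exact (hl' u (hA'C hu)).eq.symm
    · exact (hl' v (hA'C hv)).eq
    · rfl
  have hBexp : ∀ u ∈ B, u ^ p = 1 := by
    intro u hu
    rw [hgen] at hu
    induction hu using Subgroup.closure_induction with
    | mem u hu =>
      rcases hu with hu | rfl
      · exact hA'exp u hu
      · exact hl
    | one => exact one_pow _
    | mul u v hu hv ihu ihv =>
      rw [← hgen] at hu hv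
      rw [(show Commute u v from congrArg Subtype.val (hBc.is_comm.comm (⟨u, hu⟩ : B) ⟨v, hv⟩)).mul_pow, ihu, ihv,
        one_mul]
    | inv u _ ih => rw [inv_pow, ih, inv_one]
  have hBS : B ≤ S := sup_le (hA'C.trans inf_le_left) (Subgroup.zpowers_le.2 hlS)
  have h2 := hrk B hBS ⟨hBc, hBexp⟩
  haveI : Finite B := Finite.of_injective (Subgroup.inclusion hBS) (Subgroup.inclusion_injective _)
  have hlt : Nat.card A' < Nat.card B := Set.ncard_lt_ncard (SetLike.coe_ssubset_coe.2
    (lt_of_le_of_ne le_sup_left fun e => hlC (hA'C (e.ge (Subgroup.mem_sup_right (Subgroup.mem_zpowers l))))))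
    (Set.toFinite _)
  obtain ⟨i, hi⟩ := IsPGroup.iff_card.1 ((hS.to_le (inf_le_left : C ≤ S)).to_subgroup A)
  obtain ⟨j, hj⟩ := IsPGroup.iff_card.1 (hS.to_le hBS)
  rw [hA'card] at hlt
  rw [hi] at hgt hlt
  rw [hj] at hlt h2
  rw [Nat.pow_le_pow_iff_right hp.out.one_lt] at h2
  rw [Nat.pow_lt_pow_iff_right hp.out.one_lt] at hlt
  have h1 := (Nat.pow_le_pow_right hp.out.pos (show i ≤ 1 by omega)).trans_eq (pow_one p)
  omega

end CfsgLib.RankTwoResistant
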